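import Cfsg.Agent.Lib.LocalEven.CharP
import Cfsg.Agent.Lib.Coprime.Commutator
import Cfsg.Agent.Lib.Coprime.HyperplaneGeneration
import Cfsg.Prelude.Def_Amalgam
import Cfsg.Prelude.Def_Transfer

/-!
# Klinger-Mason: the recursion

An elementary abelian 2-group `E` acting faithfully on a group of odd prime power order `P` and
centralizing a central elementary abelian subgroup `B` gives a chain of independent commuting
elements of order `p`, each centralized or inverted by every element of `E`.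
-/

set_option autoImplicit false

namespace CfsgLib.Classif.KM

open Subgroup CfsgLib.LocalEvenCharP

variable {G : Type*} [Group G] [Finite G]

omit [Finite G] in
/-- Conjugation by an element of the normalizer. -/
theorem conj_mem {H : Subgroup G} {a x : G} (ha : a ∈ normalizer (H : Set G)) (hx : x ∈ H) :
    a * x * a⁻¹ ∈ H :=
  CfsgLib.Coprime.mem_normalizer_conj ha hx

omit [Finite G] in
theorem comm_of_elem {p : ℕ} {A : Subgroup G} (hA : Cfsg.IsElementaryAbelian p A) {a b : G}
    (ha : a ∈ A) (hb : b ∈ A) : a * b = b * a :=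
  congrArg Subtype.val (hA.1.is_comm.comm (⟨a, ha⟩ : A) ⟨b, hb⟩)

omit [Finite G] in
theorem elem_le_centralizer {p : ℕ} {A : Subgroup G} (hA : Cfsg.IsElementaryAbelian p A) :
    A ≤ centralizer (A : Set G) := fun _ ha =>
  mem_centralizer_iff.2 fun _ hb => comm_of_elem hA hb ha

omit [Finite G] in
theorem isPGroup_of_elem {p : ℕ} {A : Subgroup G} (hA : Cfsg.IsElementaryAbelian p A) :
    IsPGroup p A := fun a => ⟨1, Subtype.ext (by simpa using hA.2 a a.2)⟩

omit [Finite G] in
theorem elem_mono {p : ℕ} {A B : Subgroup G} (hA : Cfsg.IsElementaryAbelian p A) (h : B ≤ A) :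
    Cfsg.IsElementaryAbelian p B :=
  ⟨⟨⟨fun a b => Subtype.ext (comm_of_elem hA (h a.2) (h b.2))⟩⟩, fun a ha => hA.2 a (h ha)⟩

omit [Finite G] in
theorem elem_closure {p : ℕ} {S : Set G} (hc : ∀ x ∈ S, ∀ y ∈ S, x * y = y * x)
    (hp : ∀ x ∈ S, x ^ p = 1) : Cfsg.IsElementaryAbelian p (closure S) := by
  have hle : closure S ≤ centralizer (closure S : Set G) := by
    rw [closure_le]
    intro x hx
    rw [centralizer_closure]
    exact mem_centralizer_iff.2 fun y hy => hc y hy x hx
  have hcm : ∀ a ∈ closure S, ∀ b ∈ closure S, a * b = b * a := fun a ha b hb =>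
    (mem_centralizer_iff.1 (hle ha) b hb).symm
  refine ⟨⟨⟨fun a b => Subtype.ext (hcm a a.2 b b.2)⟩⟩, fun a ha => ?_⟩
  induction ha using closure_induction with
  | mem x hx => exact hp x hx
  | one => exact one_pow p
  | mul x y hx hy h1 h2 => rw [(Commute.mul_pow (hcm x hx y hy)), h1, h2, one_mul]
  | inv x _ h1 => rw [inv_pow, h1, inv_one]

omit [Finite G] in
theorem elem_sup {p : ℕ} {A B : Subgroup G} (hA : Cfsg.IsElementaryAbelian p A)
    (hB : Cfsg.IsElementaryAbelian p B) (hAB : A ≤ centralizer (B : Set G)) :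
    Cfsg.IsElementaryAbelian p (A ⊔ B) := by
  rw [sup_eq_closure]
  refine elem_closure ?_ ?_
  · rintro x (hx | hx) y (hy | hy)
    · exact comm_of_elem hA hx hy
    · exact (mem_centralizer_iff.1 (hAB hx) y hy).symm
    · exact mem_centralizer_iff.1 (hAB hy) x hx
    · exact comm_of_elem hB hx hy
  · rintro x (hx | hx)
    · exact hA.2 x hx
    · exact hB.2 x hx

omit [Finite G] in
theorem elem_zpowers {p : ℕ} {x : G} (hx : x ^ p = 1) :
    Cfsg.IsElementaryAbelian p (zpowers x) := by
  rw [zpowers_eq_closure]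
  refine elem_closure ?_ (by simpa using hx)
  simp

/-- The order of the join of two subgroups centralizing each other. -/
theorem card_sup_mul_inf {A B : Subgroup G} (hAB : A ≤ centralizer (B : Set G)) :
    Nat.card ↥(A ⊔ B) * Nat.card ↥(A ⊓ B) = Nat.card A * Nat.card B := by
  have hc : ∀ (a : A) (b : B), Commute (A.subtype a) (B.subtype b) := fun a b =>
    ((mem_centralizer_iff.1 (hAB a.2)) b b.2).symm
  let f : A × B →* G := MonoidHom.noncommCoprod A.subtype B.subtype hc
  have hrange : f.range = A ⊔ B := by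
    rw [show f = MonoidHom.noncommCoprod A.subtype B.subtype hc from rfl,
      MonoidHom.noncommCoprod_range, range_subtype, range_subtype]
  let g : ↥(A ⊓ B) → f.ker := fun x =>
    ⟨(⟨x, x.2.1⟩, ⟨(x : G)⁻¹, inv_mem x.2.2⟩), by
      show (x : G) * (x : G)⁻¹ = 1
      exact mul_inv_cancel _⟩
  have hg : Function.Bijective g := by
    refine ⟨fun x y h => Subtype.ext ?_, fun k => ?_⟩
    · exact congrArg (fun k : f.ker => ((k : A × B).1 : G)) h
    · have hk : ((k : A × B).1 : G) * (k : A × B).2 = 1 := k.2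
      have h2 : ((k : A × B).2 : G) = ((k : A × B).1 : G)⁻¹ := eq_inv_of_mul_eq_one_right hk
      have hB : ((k : A × B).1 : G) ∈ B := by simpa [h2] using inv_mem (k : A × B).2.2
      exact ⟨⟨_, (k : A × B).1.2, hB⟩,
        Subtype.ext (Prod.ext (Subtype.ext rfl) (Subtype.ext h2.symm))⟩
  rw [Nat.card_congr (Equiv.ofBijective g hg), ← hrange, mul_comm, ← index_ker, card_mul_index,
    Nat.card_prod]

theorem card_sup_of_disjoint {A B : Subgroup G} (hAB : A ≤ centralizer (B : Set G))
    (h : A ⊓ B = ⊥) : Nat.card ↥(A ⊔ B) = Nat.card A * Nat.card B := by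
  have := card_sup_mul_inf hAB
  rwa [h, card_bot, mul_one] at this

omit [Finite G] in
theorem zpow_mem_inverted {k w : G} (h : k * w * k⁻¹ = w⁻¹) (n : ℤ) :
    k * w ^ n * k⁻¹ = (w ^ n)⁻¹ := by
  rw [← conj_zpow, h, inv_zpow]

omit [Finite G] in
theorem eq_one_of_fixed_inverted {p : ℕ} (hp : Odd p) {k x : G} (hx : x ^ p = 1)
    (h1 : k * x = x * k) (h2 : k * x * k⁻¹ = x⁻¹) : x = 1 := by
  rw [h1, mul_inv_cancel_right] at h2
  have h3 : x ^ 2 = 1 := by rw [pow_two]; nth_rewrite 2 [h2]; exact mul_inv_cancel x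
  obtain ⟨m, rfl⟩ := hp
  rwa [pow_add, pow_mul, h3, one_pow, one_mul, pow_one] at hx

theorem inf_eq_bot_of_isPGroup {p q : ℕ} [Fact p.Prime] [Fact q.Prime] (hpq : p ≠ q)
    {A B : Subgroup G} (hA : IsPGroup p A) (hB : IsPGroup q B) : A ⊓ B = ⊥ :=
  disjoint_iff.1 (IsPGroup.disjoint_of_ne p q hpq A B hA hB)

/-- An element of a `q`-subgroup and an element of a `p`-subgroup, each normalizing the other
subgroup, commute. -/
theorem commute_of_cross {p q : ℕ} [Fact p.Prime] [Fact q.Prime] (hpq : p ≠ q)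
    {P C : Subgroup G} (hP : IsPGroup p P) (hC : IsPGroup q C) {x c : G} (hx : x ∈ P)
    (hc : c ∈ C) (hxC : x ∈ normalizer (C : Set G)) (hcP : c ∈ normalizer (P : Set G)) :
    x * c = c * x := by
  have h1 : x * c * x⁻¹ * c⁻¹ ∈ C := mul_mem (conj_mem hxC hc) (inv_mem hc)
  have h2 : x * (c * x⁻¹ * c⁻¹) ∈ P := mul_mem hx (conj_mem hcP (inv_mem hx))
  have h3 : x * c * x⁻¹ * c⁻¹ ∈ P ⊓ C := ⟨by simpa [mul_assoc] using h2, h1⟩
  rw [inf_eq_bot_of_isPGroup hpq hP hC, mem_bot, mul_inv_eq_one, mul_inv_eq_iff_eq_mul] at h3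
  exact h3

/-- The hypothesis on `P`, `E`, `B` and the data obtained after `j` steps. -/
def IsChain (p : ℕ) (P E B : Subgroup G) (j : ℕ) (S : Set G) : Prop :=
  S ⊆ P ∧ (∀ x ∈ S, ∀ y ∈ S, x * y = y * x) ∧ (∀ x ∈ S, x ^ p = 1) ∧
    (∀ x ∈ S, ∀ e ∈ E, e * x = x * e ∨ e * x * e⁻¹ = x⁻¹) ∧
    (∀ x ∈ S, ∃ e ∈ E, e * x * e⁻¹ = x⁻¹) ∧
    Nat.card ↥(B ⊔ closure S) = Nat.card B * p ^ j ∧
    Nat.card ↥(E ⊓ centralizer S) * 2 ^ j = Nat.card E

theorem exists_chain {p : ℕ} [Fact p.Prime] (hp : p ≠ 2) {P E B : Subgroup G}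
    (hP : IsPGroup p P) (hE : Cfsg.IsElementaryAbelian 2 E) (hEP : E ≤ normalizer (P : Set G))
    (hfaith : ∀ e ∈ E, (∀ x ∈ P, e * x = x * e) → e = 1)
    (hPB : P ≤ centralizer (B : Set G))
    (hEB : E ≤ centralizer (B : Set G)) {e : ℕ} (hcard : Nat.card E = 2 ^ e) :
    ∀ j ≤ e, ∃ S : Set G, IsChain p P E B j S := by
  have hodd : Odd p := (Fact.out : p.Prime).odd_of_ne_two hp
  intro j
  induction j with
  | zero =>
    intro _
    refine ⟨∅, by simp, by simp, by simp, by simp, by simp, by simp, ?_⟩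
    have : E ≤ centralizer (∅ : Set G) := fun e _ => mem_centralizer_iff.2 (by simp)
    rw [inf_eq_left.2 this, pow_zero, mul_one]
  | succ j ih =>
    intro hj
    obtain ⟨S, hSP, hSc, hSp, hSE, hSi, hScard, hSK⟩ := ih (by omega)
    set K := E ⊓ centralizer S with hK
    set P' := P ⊓ centralizer S with hP'
    have hXP : closure S ≤ P := (closure_le _).2 hSP
    -- `E` normalizes `P'`
    have hEP' : E ≤ normalizer (P' : Set G) := by
      refine le_normalizer_iff.2 fun a ha x hx => ⟨conj_mem (hEP ha) hx.1, ?_⟩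
      refine mem_centralizer_iff.2 fun s hs => ?_
      have hxs : Commute s x := mem_centralizer_iff.1 hx.2 s hs
      rcases hSE s hs a ha with h | h
      · have h' : Commute s a := (h : a * s = s * a).symm
        exact ((h'.mul_right hxs).mul_right h'.inv_right).eq
      · have hs' : s = a * s⁻¹ * a⁻¹ := by rw [← conj_inv, h, inv_inv]
        have h' : Commute s⁻¹ x := hxs.inv_left
        calc s * (a * x * a⁻¹) = (a * s⁻¹ * a⁻¹) * (a * x * a⁻¹) := by rw [← hs']
          _ = a * (s⁻¹ * x) * a⁻¹ := by group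
          _ = a * (x * s⁻¹) * a⁻¹ := by rw [h'.eq]
          _ = (a * x * a⁻¹) * (a * s⁻¹ * a⁻¹) := by group
          _ = _ := by rw [← hs']
    have hK1 : K ≠ ⊥ := by
      intro h
      rw [h, card_bot, one_mul, hcard] at hSK
      exact absurd (Nat.pow_right_injective le_rfl hSK) (by omega)
    obtain ⟨k₁, hk₁, hk₁1⟩ := exists_mem_ne_one_of_ne_bot_aux hK1
    have hE2 : ∀ k ∈ E, (orderOf k).Coprime p := fun k hk =>
      (((Nat.coprime_primes Nat.prime_two Fact.out).2 hp.symm)).coprime_dvd_left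
        (orderOf_dvd_of_pow_eq_one (hE.2 k hk))
    have hk₁P' : ∃ x ∈ P', k₁ * x ≠ x * k₁ := by
      by_contra h
      push Not at h
      refine hk₁1 (hfaith k₁ hk₁.1 ?_)
      refine commute_of_fixes_centralizer hP (hP.to_le hXP) (hXP.trans le_normalizer)
        (hE2 k₁ hk₁.1) (hEP hk₁.1) (fun a ha => ?_) fun x hx hxS => h x ⟨hx, ?_⟩
      · induction ha using closure_induction with
        | mem x hx => exact (mem_centralizer_iff.1 hk₁.2 x hx).symm
        | one => simp
        | mul x y _ _ h1 h2 =>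
          exact (Commute.mul_right (h1 : Commute k₁ x) h2).eq
        | inv x _ h1 => exact (Commute.inv_right (h1 : Commute k₁ x)).eq
      · exact mem_centralizer_iff.2 fun s hs => hxS s (subset_closure hs)
    have hE1 : E ≠ ⊥ := fun h => hk₁1 (by simpa [h] using hk₁.1)
    have : Fact (Nat.Prime 2) := ⟨Nat.prime_two⟩
    have hcop : (Nat.card E).Coprime (Nat.card P') := by
      obtain ⟨m, hm⟩ := (hP.to_le (inf_le_left : P' ≤ P)).exists_card_eq
      rw [hcard, hm]
      exact Nat.Coprime.pow _ _ ((Nat.coprime_primes Nat.prime_two Fact.out).2 hp.symm)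
    have hgen := CfsgLib.Coprime39.le_hyperCent_of_isPGroup (p := 2) hE hE1
      (hP.to_le (inf_le_left : P' ≤ P)) hcop hEP'
    obtain ⟨H, hHE, hH2, k₀, hk₀, y, hy, hky⟩ : ∃ H : Subgroup G, H ≤ E ∧ H.relIndex E = 2 ∧
        ∃ k₀ ∈ K, ∃ y ∈ P' ⊓ centralizer (H : Set G), k₀ * y ≠ y * k₀ := by
      by_contra h
      push Not at h
      obtain ⟨x, hx, hne⟩ := hk₁P'
      have : P' ≤ centralizer (K : Set G) := hgen.trans (iSup_le fun H y hy =>
        mem_centralizer_iff.2 fun k hk => h H.1 H.2.1 H.2.2 k hk y hy)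
      exact hne (mem_centralizer_iff.1 (this hx) k₁ hk₁)
    have hk₀2 : k₀ * k₀ = 1 := by rw [← pow_two]; exact hE.2 k₀ hk₀.1
    have hk₀i : k₀⁻¹ = k₀ := inv_eq_of_mul_eq_one_right hk₀2
    have hk₀P' : k₀ ∈ normalizer (P' : Set G) := hEP' hk₀.1
    set w := y⁻¹ * (k₀ * y * k₀⁻¹) with hw
    have hwP : w ∈ P' := mul_mem (inv_mem hy.1) (conj_mem hk₀P' hy.1)
    have hw1 : w ≠ 1 := fun h => hky (by
      rw [hw, inv_mul_eq_one] at h
      exact (mul_inv_eq_iff_eq_mul.1 h.symm))
    have hwinv : k₀ * w * k₀⁻¹ = w⁻¹ := by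
      rw [hw, hk₀i]
      calc k₀ * (y⁻¹ * (k₀ * y * k₀)) * k₀
          = (k₀ * y⁻¹ * k₀) * y * (k₀ * k₀) := by group
        _ = (k₀⁻¹ * y⁻¹ * k₀⁻¹) * y := by rw [hk₀2, mul_one, hk₀i]
        _ = _ := by group
    have hwH : ∀ h ∈ H, h * w = w * h := by
      intro h hh
      have h1 : Commute h y := mem_centralizer_iff.1 hy.2 h hh
      have h2 : Commute h k₀ := comm_of_elem hE (hHE hh) hk₀.1
      exact (h1.inv_right.mul_right ((h2.mul_right h1).mul_right h2.inv_right)).eq
    -- an element of order `p` in `⟨w⟩`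
    have hZ1 : Nat.card (zpowers w) ≠ 1 := fun h => hw1 (by
      simpa using (Subgroup.card_eq_one.1 h))
    obtain ⟨⟨x, hxw⟩, hxo⟩ := exists_prime_orderOf_dvd_card' p
      (((hP.to_le ((zpowers_le.2 hwP).trans inf_le_left)).card_eq_or_dvd).resolve_left hZ1)
    rw [orderOf_mk] at hxo
    obtain ⟨m, rfl⟩ := mem_zpowers_iff.1 hxw
    set x := w ^ m with hx
    have hxp : x ^ p = 1 := by rw [← hxo]; exact pow_orderOf_eq_one x
    have hx1 : x ≠ 1 := fun h => (Fact.out : p.Prime).ne_one (by rw [← hxo, h, orderOf_one])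
    have hxP : x ∈ P' := zpow_mem hwP m
    have hxinv : k₀ * x * k₀⁻¹ = x⁻¹ := zpow_mem_inverted hwinv m
    have hxH : ∀ h ∈ H, h * x = x * h := fun h hh =>
      (Commute.zpow_right (hwH h hh) m).eq
    have hkH : k₀ ∉ H := fun h => hx1 (eq_one_of_fixed_inverted hodd hxp (hxH k₀ h) hxinv)
    have hdich : ∀ a ∈ E, a * x = x * a ∨ a * x * a⁻¹ = x⁻¹ := by
      intro a ha
      by_cases haH : a ∈ H
      · exact Or.inl (hxH a haH)
      · right
        have hi : (H.subgroupOf E).index = 2 := hH2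
        have h1 := (mul_mem_iff_of_index_two hi (a := ⟨a, ha⟩) (b := ⟨k₀, hk₀.1⟩)).2
          (by simp [mem_subgroupOf, haH, hkH])
        simp only [mem_subgroupOf, Subgroup.coe_mul] at h1
        have h2 : a = (a * k₀) * k₀ := by rw [mul_assoc, hk₀2, mul_one]
        rw [h2]
        calc (a * k₀ * k₀) * x * (a * k₀ * k₀)⁻¹
            = (a * k₀) * (k₀ * x * k₀⁻¹) * (a * k₀)⁻¹ := by group
          _ = (a * k₀) * x⁻¹ * (a * k₀)⁻¹ := by rw [hxinv]
          _ = x⁻¹ := by
            rw [(Commute.inv_right (hxH _ h1)).eq, mul_inv_cancel_right]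
    have hcomm : ∀ a ∈ insert x S, ∀ b ∈ insert x S, a * b = b * a := by
      rintro a (rfl | ha) b (rfl | hb)
      · rfl
      · exact (mem_centralizer_iff.1 hxP.2 b hb).symm
      · exact mem_centralizer_iff.1 hxP.2 a ha
      · exact hSc a ha b hb
    refine ⟨insert x S, Set.insert_subset hxP.1 hSP, hcomm, ?_, ?_, ?_, ?_, ?_⟩
    · rintro a (rfl | ha)
      · exact hxp
      · exact hSp a ha
    · rintro a (rfl | ha)
      · exact hdich
      · exact hSE a ha
    · rintro a (rfl | ha)
      · exact ⟨k₀, hk₀.1, hxinv⟩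
      · exact hSi a ha
    · have hk₀BS : k₀ ∈ centralizer ((B ⊔ closure S : Subgroup G) : Set G) := by
        rw [sup_eq_closure, centralizer_closure, mem_centralizer_iff]
        rintro b (hb | hb)
        · exact mem_centralizer_iff.1 (hEB hk₀.1) b hb
        · have h' : k₀ ∈ centralizer (closure S : Set G) := by
            rw [centralizer_closure]; exact hk₀.2
          exact mem_centralizer_iff.1 h' b hb
      have hcent : B ⊔ closure S ≤ centralizer (zpowers x : Set G) := by
        rw [← le_centralizer_iff, zpowers_le, sup_eq_closure, centralizer_closure,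
          mem_centralizer_iff]
        rintro b (hb | hb)
        · exact mem_centralizer_iff.1 (hPB hxP.1) b hb
        · have h' : x ∈ centralizer (closure S : Set G) := by
            rw [centralizer_closure]; exact hxP.2
          exact mem_centralizer_iff.1 h' b hb
      have hinf : (B ⊔ closure S) ⊓ zpowers x = ⊥ := by
        refine (eq_bot_iff_forall _).2 fun u hu => ?_
        obtain ⟨i, rfl⟩ := mem_zpowers_iff.1 hu.2
        refine eq_one_of_fixed_inverted hodd ?_
          (mem_centralizer_iff.1 hk₀BS _ hu.1).symm (zpow_mem_inverted hxinv i)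
        rw [← zpow_natCast, zpow_comm, zpow_natCast, hxp, one_zpow]
      rw [show closure (insert x S) = closure S ⊔ zpowers x by
        rw [Set.insert_eq, Subgroup.closure_union, zpowers_eq_closure, sup_comm], ← sup_assoc,
        card_sup_of_disjoint hcent hinf, hScard, Nat.card_zpowers, hxo, pow_succ, mul_assoc]
    · have heq : E ⊓ centralizer (insert x S) = H ⊓ K := by
        ext a
        constructor
        · rintro ⟨haE, hac⟩
          refine mem_inf.2 ⟨?_, mem_inf.2 ⟨haE, mem_centralizer_iff.2 fun s hs =>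
            mem_centralizer_iff.1 hac s (Set.mem_insert_of_mem x hs)⟩⟩
          by_contra haH
          have hax : a * x = x * a := (mem_centralizer_iff.1 hac x (Set.mem_insert x S)).symm
          have hi : (H.subgroupOf E).index = 2 := hH2
          have h1 := (mul_mem_iff_of_index_two hi (a := ⟨a, haE⟩) (b := ⟨k₀, hk₀.1⟩)).2
            (by simp [mem_subgroupOf, haH, hkH])
          simp only [mem_subgroupOf, Subgroup.coe_mul] at h1
          have h2 : Commute (a⁻¹ * (a * k₀)) x :=
            (Commute.inv_left hax).mul_left (hxH _ h1)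
          rw [inv_mul_cancel_left] at h2
          exact hx1 (eq_one_of_fixed_inverted hodd hxp h2.eq hxinv)
        · rintro ⟨haH, haE, hac⟩
          refine ⟨haE, mem_centralizer_iff.2 fun s hs => ?_⟩
          rcases hs with rfl | hs
          · exact (hxH a haH).symm
          · exact mem_centralizer_iff.1 hac s hs
      have hrel : (H ⊓ K).relIndex K = 2 := by
        rw [inf_relIndex_right]
        have h1 : H.relIndex K ≤ 2 :=
          hH2 ▸ relIndex_le_of_le_right (inf_le_left : K ≤ E) (by rw [hH2]; omega)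
        have h2 : H.relIndex K ≠ 1 := fun h => hkH (relIndex_eq_one.1 h hk₀)
        have h3 : H.relIndex K ≠ 0 := FiniteIndex.index_ne_zero
        omega
      have hmul := relIndex_mul_relIndex ⊥ (H ⊓ K) K bot_le inf_le_right
      rw [relIndex_bot_left, relIndex_bot_left, hrel] at hmul
      rw [heq, pow_succ, ← hSK, ← hmul]
      ring
where
  exists_mem_ne_one_of_ne_bot_aux {K : Subgroup G} (h : K ≠ ⊥) : ∃ k ∈ K, k ≠ 1 :=
    (bot_or_exists_ne_one K).resolve_left h

/-- The `p`-group on which the centralizer of `Y` acts faithfully. -/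
def pHalf (p : ℕ) (Y : Subgroup G) : Subgroup G :=
  Cfsg.pCoreOf p (normalizer (Y : Set G)) ⊓ centralizer (Y : Set G)

theorem isPGroup_pHalf (p : ℕ) (Y : Subgroup G) : IsPGroup p (pHalf p Y) :=
  (isPGroup_pCoreOf p _).to_le inf_le_left

omit [Finite G] in
theorem centralizer_le_normalizer_pHalf (p : ℕ) (Y : Subgroup G) :
    centralizer (Y : Set G) ≤ normalizer (pHalf p Y : Set G) :=
  le_normalizer_iff.2 fun _ hg _ hx =>
    ⟨conj_mem (le_normalizer_pCoreOf p _ (centralizer_le_normalizer _ hg)) hx.1,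
      conj_mem (le_normalizer hg) hx.2⟩

omit [Finite G] in
theorem le_pHalf {p : ℕ} [Fact p.Prime] {Y : Subgroup G} (hY : Cfsg.IsElementaryAbelian p Y) :
    Y ≤ pHalf p Y :=
  le_inf (le_pCoreOf le_normalizer le_rfl (isPGroup_of_elem hY)) (elem_le_centralizer hY)

theorem faithful_pHalf {p : ℕ} [Fact p.Prime] {Y : Subgroup G}
    (hN : IsCharP p ↥(normalizer (Y : Set G))) (hY : Cfsg.IsElementaryAbelian p Y) {c : G}
    (hcY : c ∈ centralizer (Y : Set G)) (hc : (orderOf c).Coprime p)
    (hfix : ∀ x ∈ pHalf p Y, c * x = x * c) : c = 1 :=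
  hN.eq_one_subgroup (centralizer_le_normalizer _ hcY) hc <|
    commute_of_fixes_centralizer (isPGroup_pCoreOf p _) (isPGroup_of_elem hY)
      (le_normalizer.trans (le_normalizer_pCoreOf p _)) hc
      (le_normalizer_pCoreOf p _ (centralizer_le_normalizer _ hcY))
      (fun a ha => (mem_centralizer_iff.1 hcY a ha).symm)
      fun x hx hxY => hfix x ⟨hx, mem_centralizer_iff.2 hxY⟩

/-- The standing hypotheses: both local characteristic conditions, and `p ^ n` is the largest
order of an elementary abelian `p`-subgroup normalizing a nontrivial 2-subgroup. -/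
structure Ctx (G : Type*) [Group G] (p n : ℕ) : Prop where
  odd : p ≠ 2
  three : 3 ≤ n
  locp : ∀ B : Subgroup G, IsPGroup p B → B ≠ ⊥ → IsCharP p ↥(normalizer (B : Set G))
  loc2 : ∀ T : Subgroup G, IsPGroup 2 T → T ≠ ⊥ → IsCharP 2 ↥(normalizer (T : Set G))
  max : ∀ A T : Subgroup G, Cfsg.IsElementaryAbelian p A → IsPGroup 2 T → T ≠ ⊥ →
    A ≤ normalizer (T : Set G) → Nat.card A ≤ p ^ n

theorem Ctx.max_involution {p n : ℕ} (h : Ctx G p n) {A : Subgroup G}
    (hA : Cfsg.IsElementaryAbelian p A) {t : G} (ht : orderOf t = 2)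
    (hc : ∀ a ∈ A, a * t = t * a) : Nat.card A ≤ p ^ n := by
  refine h.max A (zpowers t) hA
    (isPGroup_of_elem (elem_zpowers (by rw [← ht, pow_orderOf_eq_one]))) ?_ ?_
  · rw [Ne, zpowers_eq_bot]; intro h1; simp [h1] at ht
  · intro a ha
    refine centralizer_le_normalizer _ ?_
    rw [zpowers_eq_closure, centralizer_closure]
    exact mem_centralizer_singleton_iff.2 (hc a ha)

theorem Ctx.chain {p n : ℕ} [Fact p.Prime] (h : Ctx G p n) {B E : Subgroup G}
    (hB : Cfsg.IsElementaryAbelian p B) (hB1 : B ≠ ⊥) (hE : Cfsg.IsElementaryAbelian 2 E)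
    (hEB : E ≤ centralizer (B : Set G)) {e : ℕ} (hcard : Nat.card E = 2 ^ e) {j : ℕ} (hj : j ≤ e) :
    ∃ S : Set G, IsChain p (pHalf p B) E B j S := by
  refine exists_chain h.odd (isPGroup_pHalf p B) hE
    (hEB.trans (centralizer_le_normalizer_pHalf p B)) (fun x hx hfix => ?_)
    inf_le_right hEB hcard j hj
  exact faithful_pHalf (h.locp B (isPGroup_of_elem hB) hB1) hB (hEB hx)
    (((Nat.coprime_primes Nat.prime_two Fact.out).2 h.odd.symm).coprime_dvd_left
      (orderOf_dvd_of_pow_eq_one (hE.2 x hx))) hfix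

/-- An elementary abelian `p`-group of order `p ^ k` and an elementary abelian 2-group of order
`2 ^ e` centralizing each other satisfy `k + e ≤ n + 1`. -/
theorem Ctx.rank_le {p n : ℕ} [Fact p.Prime] (h : Ctx G p n) {B E : Subgroup G} {k e : ℕ}
    (hB : Cfsg.IsElementaryAbelian p B) (hBc : Nat.card B = p ^ k) (hk : 0 < k)
    (hE : Cfsg.IsElementaryAbelian 2 E) (hEc : Nat.card E = 2 ^ e) (he : 0 < e)
    (hc : E ≤ centralizer (B : Set G)) : k + e ≤ n + 1 := by
  have hB1 : B ≠ ⊥ := fun hh => by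
    rw [hh, card_bot] at hBc
    exact (Nat.one_lt_pow hk.ne' (Fact.out : p.Prime).one_lt).ne hBc
  obtain ⟨S, hSP, hSc, hSp, -, -, hScard, hSK⟩ := h.chain hB hB1 hE hc hEc (j := e - 1) (by omega)
  have hK : Nat.card ↥(E ⊓ centralizer S) = 2 := by
    rw [hEc, show e = (e - 1) + 1 by omega, pow_succ', Nat.add_sub_cancel] at hSK
    exact Nat.eq_of_mul_eq_mul_right (by positivity) hSK
  obtain ⟨⟨t, ht⟩, ht2⟩ := exists_prime_orderOf_dvd_card' 2 (hp := ⟨Nat.prime_two⟩) hK.symm.dvd
  rw [orderOf_mk] at ht2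
  have hX : Cfsg.IsElementaryAbelian p (B ⊔ closure S) := elem_sup hB (elem_closure hSc hSp) (by
    rw [← le_centralizer_iff]
    exact ((closure_le _).2 hSP).trans inf_le_right)
  have htc : t ∈ centralizer ((B ⊔ closure S : Subgroup G) : Set G) := by
    rw [sup_eq_closure, centralizer_closure, mem_centralizer_iff]
    rintro b (hb | hb)
    · exact mem_centralizer_iff.1 (hc ht.1) b hb
    · have h' : t ∈ centralizer (closure S : Set G) := by rw [centralizer_closure]; exact ht.2
      exact mem_centralizer_iff.1 h' b hb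
  have hle := h.max_involution hX ht2 fun a ha => mem_centralizer_iff.1 htc a ha
  rw [hScard, hBc, ← pow_add] at hle
  have := (Nat.pow_le_pow_iff_right (Fact.out : p.Prime).one_lt).1 hle
  omega

end CfsgLib.Classif.KM
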