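import Cfsg.Agent.Lib.Classif.KlingerMason.Members

/-!
# Klinger-Mason: `C` is the central product of its centre and the moved parts
-/

set_option autoImplicit false
set_option linter.unusedSectionVars false

namespace CfsgLib.Classif.KM

open Subgroup CfsgLib.LocalEvenCharP
open scoped commutatorElement

variable {G : Type*} [Group G] [Finite G]
variable {p n : ℕ} [Fact p.Prime] {z : G} {A C : Subgroup G}

/-- The join of the centre of `C` and the moved parts of the members of `S`. -/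
def dS (C A : Subgroup G) (S : Set (Subgroup G)) : Subgroup G :=
  (C ⊓ centralizer (C : Set G)) ⊔ ⨆ B ∈ S, tB C A B

theorem centre_le_dS (C A : Subgroup G) (S : Set (Subgroup G)) :
    C ⊓ centralizer (C : Set G) ≤ dS C A S := le_sup_left

theorem tB_le_dS {C A : Subgroup G} {S : Set (Subgroup G)} {B : Subgroup G} (hB : B ∈ S) :
    tB C A B ≤ dS C A S :=
  le_sup_of_le_right (le_iSup₂ (f := fun B (_ : B ∈ S) => tB C A B) B hB)

theorem dS_le_iff {C A X : Subgroup G} {S : Set (Subgroup G)} :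
    dS C A S ≤ X ↔ C ⊓ centralizer (C : Set G) ≤ X ∧ ∀ B ∈ S, tB C A B ≤ X := by
  simp only [dS, sup_le_iff, iSup_le_iff]

theorem dS_mono {C A : Subgroup G} {S S' : Set (Subgroup G)} (h : S ⊆ S') :
    dS C A S ≤ dS C A S' :=
  dS_le_iff.2 ⟨centre_le_dS C A S', fun _ hB => tB_le_dS (h hB)⟩

theorem Pair.dS_le (hP : Pair p n z A C) {S : Set (Subgroup G)} (hS : ∀ B ∈ S, B ≤ A) :
    dS C A S ≤ C :=
  dS_le_iff.2 ⟨inf_le_left, fun B hB => (hP.tB_le (hS B hB)).trans (cB_le C B)⟩

theorem Pair.comm_outside (hP : Pair p n z A C) (h : Ctx G p n) {S : Set (Subgroup G)}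
    (hS : ∀ B ∈ S, mem p C A B) {B : Subgroup G} (hB : mem p C A B) (hBS : B ∉ S) {x y : G}
    (hx : x ∈ dS C A S) (hy : y ∈ tB C A B) : x * y = y * x := by
  refine mem_centralizer_singleton_iff.1 ((dS_le_iff.2 ⟨?_, ?_⟩ : dS C A S ≤ centralizer {y}) hx)
  · intro w hw
    exact mem_centralizer_singleton_iff.2
      (mem_centralizer_iff.1 hw.2 y (hP.tB_le hB.1 hy).1).symm
  · intro B' hB' w hw
    exact mem_centralizer_singleton_iff.2
      (hP.comm_mem_cB h (hS B' hB') hB (fun hh => hBS (hh ▸ hB')) hw hy)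

theorem Pair.le_dS_all (hP : Pair p n z A C) (h : Ctx G p n) :
    C ≤ dS C A {B | mem p C A B} := by
  refine (hP.le_gen h).trans (sup_le ?_ (iSup_le fun B => tB_le_dS (S := {B | mem p C A B}) B.2))
  exact fun f hf => centre_le_dS C A _
    (hP.fixed_central h hf.1 fun a ha => mem_centralizer_iff.1 hf.2 a ha)

theorem Pair.dS_disjoint (hP : Pair p n z A C) (h : Ctx G p n) {S S' : Set (Subgroup G)}
    (hS : ∀ B ∈ S, mem p C A B) (hS' : ∀ B ∈ S', mem p C A B) (hd : ∀ B ∈ S, B ∉ S') {x : G}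
    (hx : x ∈ dS C A S) (hx' : x ∈ dS C A S') : x ∈ C ⊓ centralizer (C : Set G) := by
  have hxC : x ∈ C := hP.dS_le (fun B hB => (hS B hB).1) hx
  refine mem_inf.2 ⟨hxC, mem_centralizer_iff.2 fun y hy => ?_⟩
  refine mem_centralizer_singleton_iff.1 (((hP.le_dS_all h).trans (dS_le_iff.2 ⟨?_, ?_⟩)) hy :
    y ∈ centralizer ({x} : Set G))
  · exact fun w hw => mem_centralizer_singleton_iff.2 (mem_centralizer_iff.1 hw.2 x hxC).symm
  · intro B hB w hw
    rw [mem_centralizer_singleton_iff]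
    by_cases hBS : B ∈ S
    · exact (hP.comm_outside h hS' hB (hd B hBS) hx' hw).symm
    · exact (hP.comm_outside h hS hB hBS hx hw).symm

theorem Pair.card_tB (hP : Pair p n z A C) (h : Ctx G p n) {B : Subgroup G} (hB : mem p C A B) :
    Nat.card (tB C A B) = 8 := by
  obtain ⟨a, ha, haB⟩ := hP.exists_notMem_hyper hB
  obtain ⟨i, j, k, hi, rfl, -, hi2, hij, -, hall⟩ := hP.quat h hB ha haB
  set j := a * i * a⁻¹ with hj
  have hiC := (hP.tB_le hB.1 hi).1
  have hjC : j ∈ C := conj_mem (hP.a_norm ha) hiC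
  have hjT : j ∈ tB C A B := conj_mem (hP.norm_tB ha) hi
  have hj2 : j * j = z := by
    rw [hj, show a * i * a⁻¹ * (a * i * a⁻¹) = a * (i * i) * a⁻¹ by group, hi2, hP.comm_z a ha,
      mul_inv_cancel_right]
  have hio : orderOf i = 2 ^ (1 + 1) := by
    haveI : Fact (Nat.Prime 2) := ⟨Nat.prime_two⟩
    refine orderOf_eq_prime_pow ?_ ?_
    · rw [pow_one, pow_two, hi2]; exact hP.z_ne
    · rw [show (2 : ℕ) ^ (1 + 1) = 2 * 2 by norm_num, pow_mul, pow_two i, hi2, pow_two, hP.zz]
  have hle : zpowers i ≤ tB C A B := zpowers_le.2 hi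
  have hzi : z ∈ zpowers i := hi2 ▸ mul_mem (mem_zpowers i) (mem_zpowers i)
  have hjn : j ∉ zpowers i := fun hm => by
    obtain ⟨m, hm⟩ := mem_zpowers_iff.1 hm
    rw [← hm, ((Commute.refl i).zpow_right m).eq] at hij
    exact hP.z_ne (mul_eq_right.1 hij.symm)
  have hidx : (zpowers i).relIndex (tB C A B) = 2 := by
    refine index_eq_two_iff.2 ⟨⟨j, hjT⟩, fun ⟨w, hw⟩ => ?_⟩
    simp only [mem_subgroupOf, Subgroup.coe_mul]
    by_cases hwi : w ∈ zpowers i
    · refine Or.inr ⟨hwi, fun hm => hjn ?_⟩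
      have := mul_mem (inv_mem hwi) hm
      rwa [inv_mul_cancel_left] at this
    · refine Or.inl ⟨?_, hwi⟩
      rcases hall w hw with h1 | h1 | h1 | h1
      · exact absurd (h1.mem hzi (one_mem _)) hwi
      · exact absurd (h1.mem hzi (mem_zpowers i)) hwi
      · exact (h1.mul_right j).mem hzi (hj2.symm ▸ hzi)
      · exact (h1.mul_right j).mem hzi (by
          rw [mul_assoc, hj2]; exact mul_mem (mem_zpowers i) hzi)
  have := relIndex_mul_relIndex ⊥ (zpowers i) (tB C A B) bot_le hle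
  rw [relIndex_bot_left, relIndex_bot_left, Nat.card_zpowers, hio, hidx] at this
  exact this.symm

theorem Pair.card_dS (hP : Pair p n z A C) (h : Ctx G p n) (S : Finset (Subgroup G))
    (hS : ∀ B ∈ S, mem p C A B) :
    Nat.card (dS C A (S : Set (Subgroup G))) =
      Nat.card ↥(C ⊓ centralizer (C : Set G)) * 4 ^ S.card := by
  classical
  induction S using Finset.induction_on with
  | empty =>
    have : dS C A ((∅ : Finset (Subgroup G)) : Set (Subgroup G)) =
        C ⊓ centralizer (C : Set G) :=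
      le_antisymm (dS_le_iff.2 ⟨le_rfl, by simp⟩) (centre_le_dS C A _)
    rw [this]; simp
  | insert B S hBS ih =>
    have hS' : ∀ B' ∈ (S : Set (Subgroup G)), mem p C A B' := fun B' hB' =>
      hS B' (Finset.mem_insert_of_mem hB')
    have hB := hS B (Finset.mem_insert_self B S)
    have heq : dS C A ((insert B S : Finset (Subgroup G)) : Set (Subgroup G)) =
        dS C A (S : Set (Subgroup G)) ⊔ tB C A B := by
      refine le_antisymm (dS_le_iff.2 ⟨le_sup_of_le_left (centre_le_dS C A _), ?_⟩)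
        (sup_le (dS_mono (by simp)) (tB_le_dS (by simp)))
      intro B' hB'
      rw [Finset.coe_insert] at hB'
      rcases hB' with rfl | hB'
      · exact le_sup_right
      · exact le_sup_of_le_left (tB_le_dS hB')
    have hinf : dS C A (S : Set (Subgroup G)) ⊓ tB C A B = zpowers z := by
      refine le_antisymm (fun x hx => ?_) (zpowers_le.2
        (mem_inf.2 ⟨centre_le_dS C A _ hP.z_central, hP.quat_mem h hB⟩))
      have hxW := hP.dS_disjoint h (S' := {B}) hS' (by rintro _ rfl; exact hB)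
        (fun B' hB' hh => hBS (Set.mem_singleton_iff.1 hh ▸ hB')) hx.1
        (tB_le_dS (Set.mem_singleton B) hx.2)
      rcases hP.sq_tB h x hx.2 with h1 | h1
      · exact hP.noinv h hB x hx.2 h1
      · -- a central element of order 4 commutes with the noncommuting generators
        exfalso
        obtain ⟨i, hi, y, hy, hne⟩ := (hP.exists_noncomm_pair h hB (hP.noinv h hB)).2
        have hiC := (hP.tB_le hB.1 hi).1
        have hyC := (hP.tB_le hB.1 hy).1
        have hxi : x * i = i * x := (mem_centralizer_iff.1 hxW.2 i hiC).symm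
        have hxy : x * y = y * x := (mem_centralizer_iff.1 hxW.2 y hyC).symm
        rcases hP.self_centralizing h hB (hP.noinv h hB) hx.2 h1 hi hxi with h2 | h2
        · rcases h2 with h2 | h2 <;> rw [h2] at hne
          · simp at hne
          · rw [mul_one] at hne; exact hne (hP.z_comm hyC).eq
        · rcases h2 with h2 | h2 <;> rw [h2] at hne
          · exact hne hxy
          · exact hne (Commute.mul_left (hP.z_comm hyC) hxy).eq
    have hc := card_sup_mul_inf (A := dS C A (S : Set (Subgroup G))) (B := tB C A B)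
      fun x hx => mem_centralizer_iff.2 fun y hy =>
        (hP.comm_outside h hS' hB (fun hh => hBS hh) hx hy).symm
    rw [hinf, hP.card_z, ← heq, ih hS', hP.card_tB h hB] at hc
    rw [Finset.card_insert_of_notMem hBS, pow_succ]
    linarith

theorem Pair.nrm_mem_dS (hP : Pair p n z A C) (h : Ctx G p n) {k : G} (hk : k ∈ A) :
    ∀ x ∈ C, nrm k x ∈ dS C A {B | mem p C A B ∧ k ∈ B} := by
  set D := dS C A {B | mem p C A B ∧ k ∈ B}
  have hzD : z ∈ D := centre_le_dS C A _ hP.z_central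
  suffices C ≤ hP.nrmGroup h hk D hzD from fun x hx => (this hx).2
  refine (hP.le_dS_all h).trans (dS_le_iff.2 ⟨fun w hw => ⟨hw.1, ?_⟩, fun B hB x hx => ?_⟩)
  · refine centre_le_dS C A _ (mul_mem (mul_mem hw (hP.conj_mem_centre hk hw))
      (hP.conj_mem_centre hk (hP.conj_mem_centre hk hw)))
  · refine ⟨(hP.tB_le hB.1 hx).1, ?_⟩
    by_cases hkB : k ∈ B
    · have hkx : k * x * k⁻¹ = x := by
        rw [mem_centralizer_iff.1 (hP.tB_le hB.1 hx).2 k hkB, mul_inv_cancel_right]
      rw [nrm, hkx, hkx]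
      exact tB_le_dS (S := {B | mem p C A B ∧ k ∈ B}) ⟨hB, hkB⟩ (mul_mem (mul_mem hx hx) hx)
    · exact (zpowers_le.2 hzD) (hP.nrm_tB h (hP.eq_three h) hB hk hkB x hx)

/-- An element fixed by `k` modulo the centre lies in the part of the members containing `k`. -/
theorem Pair.mem_dS_of_fixed (hP : Pair p n z A C) (h : Ctx G p n) {k x : G} (hk : k ∈ A)
    (hx : x ∈ C) (hfix : x⁻¹ * (k * x * k⁻¹) ∈ C ⊓ centralizer (C : Set G)) :
    x ∈ dS C A {B | mem p C A B ∧ k ∈ B} := by
  set w := x⁻¹ * (k * x * k⁻¹) with hw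
  have h1 : k * x * k⁻¹ = x * w := by rw [hw, mul_inv_cancel_left]
  have hkw : k * w = w * k := hP.centre_fixed h w hfix k hk
  have h2 : k * (k * x * k⁻¹) * k⁻¹ = x * (w * w) := by
    rw [h1, show k * (x * w) * k⁻¹ = (k * x * k⁻¹) * (k * w * k⁻¹) by group, hkw,
      mul_inv_cancel_right, h1, mul_assoc]
  have hxw : ∀ v ∈ C ⊓ centralizer (C : Set G), ∀ u ∈ C, v * u = u * v := fun v hv u hu =>
    (mem_centralizer_iff.1 hv.2 u hu).symm
  have hn : nrm k x = x * x * x * (w * w * w) := by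
    have hwx := hxw w hfix x hx
    rw [nrm, h2, h1]
    calc x * (x * w) * (x * (w * w)) = x * x * (w * x) * (w * w) := by group
      _ = x * x * (x * w) * (w * w) := by rw [hwx]
      _ = _ := by group
  have hD := hP.nrm_mem_dS h hk x hx
  rw [hn] at hD
  have h3 : x * x * x ∈ dS C A {B | mem p C A B ∧ k ∈ B} := by
    have := mul_mem hD (inv_mem (centre_le_dS C A {B | mem p C A B ∧ k ∈ B}
      (mul_mem (mul_mem hfix hfix) hfix)))
    rwa [mul_inv_cancel_right] at this
  have := mul_mem (inv_mem (centre_le_dS C A {B | mem p C A B ∧ k ∈ B} (hP.sq_mem x hx))) h3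
  rwa [inv_mul_cancel_left] at this

theorem Pair.dS_fixed (hP : Pair p n z A C) (h : Ctx G p n) {S : Set (Subgroup G)} {k x : G}
    (hk : k ∈ A) (hS : ∀ B ∈ S, B ≤ A ∧ k ∈ B) (hx : x ∈ dS C A S) : k * x = x * k := by
  refine (mem_centralizer_singleton_iff.1 ((dS_le_iff.2 ⟨?_, ?_⟩ :
    dS C A S ≤ centralizer ({k} : Set G)) hx)).symm
  · exact fun w hw => mem_centralizer_singleton_iff.2 (hP.centre_fixed h w hw k hk).symm
  · exact fun B hB w hw => mem_centralizer_singleton_iff.2
      (mem_centralizer_iff.1 (hP.tB_le (hS B hB).1 hw).2 k (hS B hB).2).symm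

/-- The image of a subgroup under conjugation. -/
def cj (g : G) (B : Subgroup G) : Subgroup G := B.map (MulAut.conj g).toMonoidHom

theorem mem_cj {g : G} {B : Subgroup G} {x : G} (hx : x ∈ B) : g * x * g⁻¹ ∈ cj g B :=
  ⟨x, hx, rfl⟩

theorem cj_cj {g : G} (hg : g * g = 1) (B : Subgroup G) : cj g (cj g B) = B := by
  ext x
  constructor
  · rintro ⟨_, ⟨y, hy, rfl⟩, rfl⟩
    show g * (g * y * g⁻¹) * g⁻¹ ∈ B
    rwa [show g * (g * y * g⁻¹) * g⁻¹ = (g * g) * y * (g * g)⁻¹ by group, hg, one_mul, inv_one,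
      mul_one]
  · intro hx
    refine ⟨_, mem_cj hx, ?_⟩
    show g * (g * x * g⁻¹) * g⁻¹ = x
    rw [show g * (g * x * g⁻¹) * g⁻¹ = (g * g) * x * (g * g)⁻¹ by group, hg, one_mul, inv_one,
      mul_one]

theorem cj_le_of_mem_normalizer {g : G} {B : Subgroup G} (hg : g ∈ normalizer (B : Set G)) :
    cj g B = B := by
  ext x
  constructor
  · rintro ⟨y, hy, rfl⟩
    exact conj_mem hg hy
  · intro hx
    refine ⟨g⁻¹ * x * g⁻¹⁻¹, conj_mem (inv_mem hg) hx, ?_⟩
    show g * (g⁻¹ * x * g⁻¹⁻¹) * g⁻¹ = x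
    group

theorem tB_cj_le {g : G} {A C B : Subgroup G} (hgA : g ∈ normalizer (A : Set G))
    (hgC : g ∈ normalizer (C : Set G)) :
    cj g (tB C A B) ≤ tB C A (cj g B) := by
  rw [cj, tB, map_commutator]
  refine commutator_mono ?_ (cj_le_of_mem_normalizer hgA).le
  rintro _ ⟨x, hx, rfl⟩
  refine mem_inf.2 ⟨conj_mem hgC hx.1, mem_centralizer_iff.2 ?_⟩
  rintro _ ⟨b, hb, rfl⟩
  exact congrArg (fun u => g * u * g⁻¹) (mem_centralizer_iff.1 hx.2 b hb) |> fun e => by
    simpa [mul_assoc] using e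

theorem mem_cj_of_mem {g : G} {A C B : Subgroup G} (hgA : g ∈ normalizer (A : Set G))
    (hgC : g ∈ normalizer (C : Set G)) (hB : mem p C A B) : mem p C A (cj g B) := by
  refine ⟨(map_mono hB.1).trans (cj_le_of_mem_normalizer hgA).le, ?_, ?_⟩
  · have h1 := hB.2.1
    rw [← cj_le_of_mem_normalizer hgA, cj, cj,
      relIndex_map_map_of_injective _ _ (MulAut.conj g).injective]
    exact h1
  · intro hbot
    obtain ⟨x, hx, hx1⟩ := (bot_or_exists_ne_one _).resolve_left hB.2.2
    have := tB_cj_le hgA hgC (mem_cj (g := g) hx)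
    rw [hbot, mem_bot, conj_eq_one_iff] at this
    exact hx1 this

theorem conj_dS_mem {g : G} {A C : Subgroup G} (hgA : g ∈ normalizer (A : Set G))
    (hgC : g ∈ normalizer (C : Set G)) {S : Set (Subgroup G)} {x : G} (hx : x ∈ dS C A S) :
    g * x * g⁻¹ ∈ dS C A (cj g '' S) := by
  suffices h : dS C A S ≤ (dS C A (cj g '' S)).comap (MulAut.conj g).toMonoidHom from h hx
  refine dS_le_iff.2 ⟨fun w hw => centre_le_dS C A _ (mem_inf.2 ⟨conj_mem hgC hw.1,
    mem_centralizer_iff.2 fun y hy => ?_⟩), fun B hB w hw => ?_⟩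
  · have h1 := mem_centralizer_iff.1 hw.2 _ (conj_mem (inv_mem hgC) hy)
    show y * (g * w * g⁻¹) = g * w * g⁻¹ * y
    calc y * (g * w * g⁻¹) = g * (g⁻¹ * y * g⁻¹⁻¹ * w) * g⁻¹ := by group
      _ = g * (w * (g⁻¹ * y * g⁻¹⁻¹)) * g⁻¹ := by rw [h1]
      _ = _ := by group
  · exact tB_le_dS (Set.mem_image_of_mem _ hB) (tB_cj_le hgA hgC (mem_cj hw))

theorem card_inf_ge {A : Subgroup G} {ι : Type*} (f : ι → Subgroup G) (s : Finset ι)
    (hf : ∀ i ∈ s, f i ≤ A ∧ (f i).relIndex A = p) {K : Subgroup G} {k : ℕ} (hK : K ≤ A)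
    (hc : Nat.card K = p ^ k) :
    ∃ K' ≤ K, (∀ i ∈ s, K' ≤ f i) ∧ ∃ m, k ≤ m + s.card ∧ Nat.card K' = p ^ m := by
  classical
  induction s using Finset.induction_on with
  | empty => exact ⟨K, le_rfl, by simp, k, by simp, hc⟩
  | insert i s hi ih =>
    obtain ⟨K', hK', hle, m, hm, hm'⟩ := ih fun j hj => hf j (Finset.mem_insert_of_mem hj)
    obtain ⟨hiA, hip⟩ := hf i (Finset.mem_insert_self i s)
    refine ⟨K' ⊓ f i, inf_le_left.trans hK', fun j hj => ?_, ?_⟩
    · rcases Finset.mem_insert.1 hj with rfl | hj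
      · exact inf_le_right
      · exact inf_le_left.trans (hle j hj)
    rw [Finset.card_insert_of_notMem hi]
    rcases card_inf_hyper hiA hip (hK'.trans hK) hm' with h1 | ⟨-, h1⟩
    · exact ⟨m, by omega, h1⟩
    · rcases m with _ | m
      · exfalso
        have h2 := Nat.one_le_iff_ne_zero.2 (Nat.card_pos (α := ↥(K' ⊓ f i))).ne'
        have h3 := (Fact.out : p.Prime).one_lt
        nlinarith
      · refine ⟨m, by omega, Nat.eq_of_mul_eq_mul_right (Fact.out : p.Prime).pos ?_⟩
        rw [h1, pow_succ]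

/-- An elementary abelian group built from an even number of members. -/
theorem Pair.exists_elem (hP : Pair p n z A C) (h : Ctx G p n) (f : ℕ → Subgroup G) :
    ∀ l, (∀ i < 2 * l, mem p C A (f i)) → Set.InjOn f {i | i < 2 * l} →
      ∃ E ≤ dS C A (f '' {i | i < 2 * l}), z ∈ E ∧ Cfsg.IsElementaryAbelian 2 E ∧
        Nat.card E = 2 ^ (2 * l + 1) := by
  intro l
  induction l with
  | zero =>
    intro _ _
    exact ⟨zpowers z, zpowers_le.2 (centre_le_dS C A _ hP.z_central), mem_zpowers z, hP.elem_z,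
      by rw [hP.card_z]; rfl⟩
  | succ l ih =>
    intro hf hinj
    have hsub : {i : ℕ | i < 2 * l} ⊆ {i | i < 2 * (l + 1)} := fun i (hi : i < 2 * l) =>
      show i < 2 * (l + 1) by omega
    obtain ⟨E, hE, hzE, hEe, hEc⟩ := ih (fun i hi => hf i (by omega)) (hinj.mono hsub)
    set B := f (2 * l) with hBdef
    set B' := f (2 * l + 1) with hB'def
    have hB : mem p C A B := hf _ (by omega)
    have hB' : mem p C A B' := hf _ (by omega)
    have hne : B ≠ B' := fun hh => by
      have := hinj (show 2 * l < 2 * (l + 1) by omega) (show 2 * l + 1 < 2 * (l + 1) by omega) hh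
      omega
    set S := f '' {i : ℕ | i < 2 * l} with hSdef
    have hS : ∀ X ∈ S, mem p C A X := by
      rintro _ ⟨i, hi, rfl⟩
      exact hf i (by simp only [Set.mem_ofPred_eq] at hi; omega)
    have hBS : B ∉ S := by
      rintro ⟨i, hi, hh⟩
      simp only [Set.mem_ofPred_eq] at hi
      have := hinj (show i < 2 * (l + 1) by omega) (show 2 * l < 2 * (l + 1) by omega) hh
      omega
    have hB'S : B' ∉ S := by
      rintro ⟨i, hi, hh⟩
      simp only [Set.mem_ofPred_eq] at hi
      have := hinj (show i < 2 * (l + 1) by omega) (show 2 * l + 1 < 2 * (l + 1) by omega) hh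
      omega
    obtain ⟨a, ha, haB⟩ := hP.exists_notMem_hyper hB
    obtain ⟨a', ha', haB'⟩ := hP.exists_notMem_hyper hB'
    obtain ⟨i, j, -, hi, hjdef, -, hi2, hij, -, -⟩ := hP.quat h hB ha haB
    obtain ⟨i', j', -, hi', hj'def, -, hi2', hij', -, -⟩ := hP.quat h hB' ha' haB'
    have hj : j ∈ tB C A B := hjdef ▸ conj_mem (hP.norm_tB ha) hi
    have hj' : j' ∈ tB C A B' := hj'def ▸ conj_mem (hP.norm_tB ha') hi'
    have hiC := (hP.tB_le hB.1 hi).1
    have hjC := (hP.tB_le hB.1 hj).1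
    have hiC' := (hP.tB_le hB'.1 hi').1
    have hjC' := (hP.tB_le hB'.1 hj').1
    have hj2 : j * j = z := by
      rw [hjdef, show a * i * a⁻¹ * (a * i * a⁻¹) = a * (i * i) * a⁻¹ by group, hi2,
        hP.comm_z a ha, mul_inv_cancel_right]
    have hj2' : j' * j' = z := by
      rw [hj'def, show a' * i' * a'⁻¹ * (a' * i' * a'⁻¹) = a' * (i' * i') * a'⁻¹ by group, hi2',
        hP.comm_z a' ha', mul_inv_cancel_right]
    have cross : ∀ {u v : G}, u ∈ tB C A B → v ∈ tB C A B' → Commute u v :=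
      fun hu hv => hP.comm_mem_cB h hB hB' hne hu hv
    have hpair : ∀ {u v : G}, u ∈ tB C A B → v ∈ tB C A B' →
        u * v ∈ dS C A ({B, B'} : Set (Subgroup G)) := fun hu hv =>
      mul_mem (tB_le_dS (Set.mem_insert B {B'}) hu)
        (tB_le_dS (Set.mem_insert_of_mem B (Set.mem_singleton B')) hv)
    have key : ∀ {u v w : G}, u ∈ tB C A B → v ∈ tB C A B' → w ∈ tB C A B → u * w ≠ w * u →
        u * v ∉ dS C A S := by
      intro u v w hu hv hw hne' hm
      have hW := hP.dS_disjoint h hS (S' := {B, B'})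
        (fun X hX => by rcases hX with rfl | rfl <;> assumption)
        (fun X hX hh => by rcases hh with rfl | rfl <;> contradiction) hm (hpair hu hv)
      have h1 : Commute w (u * v) := mem_centralizer_iff.1 hW.2 w (hP.tB_le hB.1 hw).1
      have h2 : Commute w v⁻¹ := (cross hw hv).inv_right
      have h3 := h1.mul_right h2
      rw [mul_inv_cancel_right] at h3
      exact hne' h3.eq.symm
    have hcE : ∀ {u v : G}, u ∈ tB C A B → v ∈ tB C A B' → ∀ e ∈ E, e * (u * v) = u * v * e :=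
      fun hu hv e he =>
      (Commute.mul_right (hP.comm_outside h hS hB hBS (hE he) hu : Commute e _)
        (hP.comm_outside h hS hB' hB'S (hE he) hv)).eq
    have ht2 : i * i' * (i * i') = 1 := by
      rw [(cross hi hi').symm.mul_mul_mul_comm, hi2, hi2', hP.zz]
    have hu2 : j * j' * (j * j') = 1 := by
      rw [(cross hj hj').symm.mul_mul_mul_comm, hj2, hj2', hP.zz]
    have hzne : ∀ {u v : G}, u * v = z * (v * u) → u * v ≠ v * u := fun h1 h2 => by
      rw [h2] at h1
      exact hP.z_ne (mul_eq_right.1 h1.symm)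
    have htu : i * i' * (j * j') = j * j' * (i * i') := by
      calc i * i' * (j * j') = i * j * (i' * j') := (cross hj hi').symm.mul_mul_mul_comm i j'
        _ = z * (j * i) * (z * (j' * i')) := by rw [hij, hij']
        _ = z * z * (j * i * (j' * i')) :=
          (hP.z_comm (mul_mem hjC hiC)).symm.mul_mul_mul_comm z (j' * i')
        _ = j * j' * (i * i') := by
          rw [hP.zz, one_mul]; exact (cross hi hj').mul_mul_mul_comm j i'
    obtain ⟨hE1, hE1c⟩ := elem_insert hEe ht2 (hcE hi hi')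
      (fun hm => key hi hi' hj (hzne hij) (hE hm))
    have hct : ∀ e ∈ E ⊔ zpowers (i * i'), e * (j * j') = j * j' * e := by
      have hle : E ⊔ zpowers (i * i') ≤ centralizer ({j * j'} : Set G) :=
        sup_le (fun e he => mem_centralizer_singleton_iff.2 (hcE hj hj' e he))
          (zpowers_le.2 (mem_centralizer_singleton_iff.2 htu))
      exact fun e he => mem_centralizer_singleton_iff.1 (hle he)
    have hunot : j * j' ∉ E ⊔ zpowers (i * i') := by
      intro hm
      rcases mem_elem_insert ht2 (hcE hi hi') hm with h1 | h1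
      · exact key hj hj' hi (Ne.symm (hzne hij)) (hE h1)
      · refine key (u := j * i) (v := j' * i') (mul_mem hj hi) (mul_mem hj' hi') hj ?_ ?_
        · intro hh
          rw [← mul_assoc, mul_assoc j i j, mul_assoc j j i, mul_right_inj] at hh
          exact hzne hij hh
        · rw [(cross hi hj').mul_mul_mul_comm j i']
          exact hE h1
    obtain ⟨hE2, hE2c⟩ := elem_insert hE1 hu2 hct hunot
    refine ⟨E ⊔ zpowers (i * i') ⊔ zpowers (j * j'), ?_,
      le_sup_left (a := E ⊔ zpowers (i * i')) (le_sup_left (a := E) hzE), hE2, ?_⟩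
    · have h0 : ({B, B'} : Set (Subgroup G)) ⊆ f '' {i | i < 2 * (l + 1)} := by
        rintro X (rfl | rfl)
        · exact ⟨2 * l, show 2 * l < 2 * (l + 1) by omega, rfl⟩
        · exact ⟨2 * l + 1, show 2 * l + 1 < 2 * (l + 1) by omega, rfl⟩
      exact sup_le (sup_le (hE.trans (dS_mono (Set.image_mono hsub)))
        (zpowers_le.2 (dS_mono h0 (hpair hi hi'))))
        (zpowers_le.2 (dS_mono h0 (hpair hj hj')))
    · rw [hE2c, hE1c, hEc, show 2 * (l + 1) + 1 = 2 * l + 1 + 1 + 1 by omega, pow_succ, pow_succ]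
      ring

/-- Four members cannot contain a common subgroup of order at least `p ^ (n - 3)`. -/
theorem Pair.four_members (hP : Pair p n z A C) (h : Ctx G p n) {K : Subgroup G} {k : ℕ}
    (hKA : K ≤ A) (hK : Nat.card K = p ^ k) (hk : 0 < k) (hn : n ≤ k + 3) (f : ℕ → Subgroup G)
    (hf : ∀ i < 4, mem p C A (f i) ∧ K ≤ f i) (hinj : Set.InjOn f {i | i < 4}) : False := by
  obtain ⟨E, hE, -, hEe, hEc⟩ := hP.exists_elem h f 2 (fun i hi => (hf i hi).1) hinj
  have := h.rank_le (elem_mono hP.elem hKA) hK hk hEe hEc (by norm_num) (fun e he =>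
    mem_centralizer_iff.2 fun c hc => hP.dS_fixed h (hKA hc)
      (by rintro _ ⟨i, hi, rfl⟩; exact ⟨(hf i hi).1.1, (hf i hi).2 hc⟩) (hE he))
  omega

end CfsgLib.Classif.KM
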