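import Cfsg.Agent.Lib.Classif.KlingerMason.Quat

/-!
# Klinger-Mason: the structure of `C`
-/

set_option autoImplicit false
set_option linter.unusedSectionVars false

namespace CfsgLib.Classif.KM

open Subgroup CfsgLib.LocalEvenCharP
open scoped commutatorElement

variable {G : Type*} [Group G] [Finite G]
variable {p n : ℕ} [Fact p.Prime] {z : G} {A C : Subgroup G}

theorem sup_zpowers_eq {A B : Subgroup G} (hBA : B ≤ A) (hB : B.relIndex A = p) {a : G}
    (ha : a ∈ A) (haB : a ∉ B) : B ⊔ zpowers a = A :=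
  sup_hyper hBA hB (zpowers_le.2 ha) fun h => haB (h (mem_zpowers a))

/-- An element commuting with a hyperplane and with an element outside it is fixed by `A`. -/
theorem fixed_of_gen {A B : Subgroup G} (hBA : B ≤ A) (hB : B.relIndex A = p) {a x : G}
    (ha : a ∈ A) (haB : a ∉ B) (hx : x ∈ centralizer (B : Set G)) (hax : a * x = x * a) :
    ∀ c ∈ A, c * x = x * c := by
  intro c hc
  rw [← sup_zpowers_eq hBA hB ha haB] at hc
  have hle : B ⊔ zpowers a ≤ centralizer ({x} : Set G) :=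
    sup_le (fun b hb => mem_centralizer_singleton_iff.2 (mem_centralizer_iff.1 hx b hb))
      (zpowers_le.2 (mem_centralizer_singleton_iff.2 hax))
  exact mem_centralizer_singleton_iff.1 (hle hc)

theorem Pair.tB_commutator (hP : Pair p n z A C) (h : Ctx G p n) {B : Subgroup G}
    (hBA : B ≤ A) : ⁅tB C A B, A⁆ = tB C A B :=
  CfsgLib.Coprime.commutator_commutator_eq A (cB C B) (hP.norm_cB hBA)
    (hP.coprime_of_le h (cB_le C B)) (Or.inl hP.solvable)

theorem Pair.exists_noncomm_pair (hP : Pair p n z A C) (h : Ctx G p n) {B : Subgroup G}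
    (hB : mem p C A B) (hni : ∀ x ∈ tB C A B, x * x = 1 → x ∈ zpowers z) :
    z ∈ tB C A B ∧ ∃ x ∈ tB C A B, ∃ y ∈ tB C A B, x * y ≠ y * x := by
  have hTC : tB C A B ≤ C := (hP.tB_le hB.1).trans (cB_le C B)
  suffices hxy : ∃ x ∈ tB C A B, ∃ y ∈ tB C A B, x * y ≠ y * x by
    refine ⟨?_, hxy⟩
    obtain ⟨x, hx, y, hy, hne⟩ := hxy
    rcases hP.swap h (hTC hx) (hTC hy) with h1 | h1
    · exact absurd h1 hne
    · rw [show z = x * y * (y * x)⁻¹ by rw [h1, mul_inv_cancel_right]]
      exact mul_mem (mul_mem hx hy) (inv_mem (mul_mem hy hx))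
  by_contra hc
  push Not at hc
  have : IsMulCommutative (tB C A B) := ⟨⟨fun x y => Subtype.ext (hc _ x.2 _ y.2)⟩⟩
  have hbot := CfsgLib.Coprime.commutator_inf_centralizer_eq_bot A (tB C A B) hP.norm_tB
    (hP.coprime_of_le h hTC)
  rw [hP.tB_commutator h hB.1] at hbot
  have hz : z ∉ tB C A B := fun hz => hP.z_ne (by
    have : z ∈ tB C A B ⊓ centralizer (A : Set G) :=
      mem_inf.2 ⟨hz, mem_centralizer_iff.2 hP.comm_z⟩
    rwa [hbot, mem_bot] at this)
  refine hB.2.2 ((eq_bot_iff_forall _).2 fun x hx => ?_)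
  rcases hP.sq_tB h x hx with h1 | h1
  · rcases (mem_zpowers_involution hP.zz).1 (hni x hx h1) with h2 | h2
    · exact h2
    · exact absurd (h2 ▸ hx) hz
  · exact absurd (h1 ▸ mul_mem hx hx) hz

theorem Pair.self_centralizing (hP : Pair p n z A C) (h : Ctx G p n) {B : Subgroup G}
    (hB : mem p C A B) (hni : ∀ x ∈ tB C A B, x * x = 1 → x ∈ zpowers z) {i w : G}
    (hi : i ∈ tB C A B) (hi2 : i * i = z) (hw : w ∈ tB C A B) (hc : i * w = w * i) :
    Eqz z w 1 ∨ Eqz z w i := by
  have hiC := (hP.tB_le hB.1 hi).1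
  rcases hP.sq_tB h w hw with h1 | h1
  · left
    rcases (mem_zpowers_involution hP.zz).1 (hni w hw h1) with h2 | h2
    · exact Or.inl h2
    · exact Or.inr (by rw [h2, mul_one])
  · right
    have h2 : i * w * (i * w) = 1 := by
      rw [Commute.mul_mul_mul_comm (hc : Commute i w).symm, hi2, h1, hP.zz]
    have hinv : i⁻¹ = z * i := inv_eq_of_mul_eq_one_left (by rw [mul_assoc, hi2, hP.zz])
    rcases (mem_zpowers_involution hP.zz).1 (hni _ (mul_mem hi hw) h2) with h3 | h3
    · exact Or.inr (by rw [eq_inv_of_mul_eq_one_right h3, hinv])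
    · left
      rw [← inv_mul_cancel_left i w, h3, hinv, mul_assoc, ← (hP.z_comm hiC).eq, ← mul_assoc,
        hP.zz, one_mul]

/-- The quaternion structure of a moved part without extra involutions. -/
theorem Pair.quat_of_noinv (hP : Pair p n z A C) (h : Ctx G p n) {B : Subgroup G}
    (hB : mem p C A B) (hni : ∀ x ∈ tB C A B, x * x = 1 → x ∈ zpowers z) {a : G} (ha : a ∈ A)
    (haB : a ∉ B) :
    p = 3 ∧ ∃ i j k : G, i ∈ tB C A B ∧ j = a * i * a⁻¹ ∧ k = a * j * a⁻¹ ∧ i * i = z ∧
      i * j = z * (j * i) ∧ Eqz z k (i * j) ∧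
      ∀ w ∈ tB C A B, Eqz z w 1 ∨ Eqz z w i ∨ Eqz z w j ∨ Eqz z w (i * j) := by
  have hTC : tB C A B ≤ C := (hP.tB_le hB.1).trans (cB_le C B)
  obtain ⟨-, i, hi, y, hy, hiy⟩ := hP.exists_noncomm_pair h hB hni
  have hiC : i ∈ C := hTC hi
  have hinz : i ∉ zpowers z := by
    intro hm
    rcases (mem_zpowers_involution hP.zz).1 hm with h1 | h1
    · exact hiy (by rw [h1]; simp)
    · exact hiy (by rw [h1]; exact (hP.z_comm (hTC hy)).eq)
  have hi2 : i * i = z := (hP.sq_tB h i hi).resolve_left fun h1 => hinz (hni i hi h1)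
  have hai : a * i ≠ i * a := fun hc => hiy
    (hP.comm_fixed_tB h hB.1 hiC (fixed_of_gen hB.1 hB.2.1 ha haB (hP.tB_le hB.1 hi).2 hc) y hy).symm
  set j := a * i * a⁻¹ with hj
  set k := a * j * a⁻¹ with hk
  have hjT : j ∈ tB C A B := conj_mem (hP.norm_tB ha) hi
  have hkT : k ∈ tB C A B := conj_mem (hP.norm_tB ha) hjT
  have hjC : j ∈ C := hTC hjT
  have hkC : k ∈ C := hTC hkT
  have hj2 : j * j = z := by
    rw [hj, show a * i * a⁻¹ * (a * i * a⁻¹) = a * (i * i) * a⁻¹ by group, hi2, hP.comm_z a ha,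
      mul_inv_cancel_right]
  have hnfix : ∀ {x : G}, x ∈ C → x ∉ zpowers z → ¬ Eqz z (a * x * a⁻¹) 1 := by
    intro x _ hxz he
    rcases he with h1 | h1
    · exact hxz ((conj_eq_one_iff.1 h1) ▸ one_mem _)
    · rw [mul_one, mul_inv_eq_iff_eq_mul, ← hP.comm_z a ha, mul_right_inj] at h1
      exact hxz (h1 ▸ mem_zpowers z)
  have hji : ¬ Eqz z j i := hP.not_eqz h ha hiC hai
  have hij : i * j = z * (j * i) := by
    refine (hP.swapz h hiC hjC).resolve_left fun hc => ?_
    rcases hP.self_centralizing h hB hni hi hi2 hjT hc with h1 | h1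
    · exact hnfix hiC hinz h1
    · exact hji h1
  have hall : ∀ w ∈ tB C A B, Eqz z w 1 ∨ Eqz z w i ∨ Eqz z w j ∨ Eqz z w (i * j) := by
    intro w hw
    rcases hP.swapz h hiC (hTC hw) with hc | hc
    · rcases hP.self_centralizing h hB hni hi hi2 hw hc with h1 | h1
      · exact Or.inl h1
      · exact Or.inr (Or.inl h1)
    · have hjw : i * (j * w) = j * w * i := by
        calc i * (j * w) = z * (j * (i * w)) := by rw [← mul_assoc, hij]; group
          _ = z * ((j * z) * (w * i)) := by rw [hc]; group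
          _ = (z * z) * (j * w * i) := by rw [← (hP.z_comm hjC).eq]; group
          _ = _ := by rw [hP.zz, one_mul]
      have hjinv : j⁻¹ = z * j := inv_eq_of_mul_eq_one_left (by rw [mul_assoc, hj2, hP.zz])
      have hjz : Eqz z j⁻¹ j := Or.inr hjinv
      rcases hP.self_centralizing h hB hni hi hi2 (mul_mem hjT hw) hjw with h1 | h1
      · refine Or.inr (Or.inr (Or.inl ?_))
        have h2 := h1.mul_left (hP.z_comm (inv_mem hjC))
        rw [inv_mul_cancel_left, mul_one] at h2
        exact h2.trans hP.zz hjz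
      · refine Or.inr (Or.inr (Or.inr ?_))
        have h2 := h1.mul_left (hP.z_comm (inv_mem hjC))
        rw [inv_mul_cancel_left] at h2
        refine (h2.trans hP.zz (hjz.mul_right i)).trans hP.zz ?_
        exact hP.swapz h hjC hiC
  have hjnz : j ∉ zpowers z := fun hm => hnfix hiC hinz (by
    rcases (mem_zpowers_involution hP.zz).1 hm with h1 | h1
    · exact Or.inl h1
    · exact Or.inr (by rw [mul_one]; exact h1))
  have haj : a * j ≠ j * a := fun hc => hai (by
    have : j = i := by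
      calc j = a⁻¹ * (a * j) := by group
        _ = a⁻¹ * (j * a) := by rw [hc]
        _ = i := by rw [hj]; group
    rwa [hj, mul_inv_eq_iff_eq_mul] at this)
  have hki : ¬ Eqz z k i := by
    intro he
    have haa : a * a * i ≠ i * (a * a) := by
      intro hh
      obtain ⟨m, hm⟩ := hP.odd_p h
      have h1 : Commute ((a * a) ^ (m + 1)) i := Commute.pow_left hh (m + 1)
      rw [← pow_two, ← pow_mul, show 2 * (m + 1) = p + 1 by omega, pow_succ, hP.pow_p ha,
        one_mul] at h1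
      exact hai h1.eq
    refine hP.not_eqz h (mul_mem ha ha) hiC haa ?_
    rwa [show a * a * i * (a * a)⁻¹ = k by rw [hk, hj]; group]
  have hk_eq : Eqz z k (i * j) := by
    rcases hall k hkT with h1 | h1 | h1 | h1
    · exact absurd h1 (hnfix hjC hjnz)
    · exact absurd h1 hki
    · exact absurd h1 (hP.not_eqz h ha hjC haj)
    · exact h1
  have hak : Eqz z (a * k * a⁻¹) i := by
    have hz' : a * z * a⁻¹ = z := by rw [hP.comm_z a ha, mul_inv_cancel_right]
    have h1 : Eqz z (a * k * a⁻¹) (j * k) := by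
      rcases hk_eq with h1 | h1
      · left
        calc a * k * a⁻¹ = a * (i * j) * a⁻¹ := by rw [h1]
          _ = (a * i * a⁻¹) * (a * j * a⁻¹) := by group
          _ = j * k := rfl
      · right
        calc a * k * a⁻¹ = (a * z * a⁻¹) * ((a * i * a⁻¹) * (a * j * a⁻¹)) := by rw [h1]; group
          _ = z * (j * k) := by rw [hz', ← hj, ← hk]
    have h2 : Eqz z (j * k) (j * (i * j)) := hk_eq.mul_left (hP.z_comm hjC)
    have h3 : Eqz z (j * (i * j)) (i * (j * j)) := by
      have := (hP.swapz h hjC hiC).mul_right j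
      simpa [mul_assoc] using this
    have h4 : Eqz z (i * (j * j)) i := Or.inr (by rw [hj2, (hP.z_comm hiC).eq])
    exact ((h1.trans hP.zz h2).trans hP.zz h3).trans hP.zz h4
  have he : a ^ 3 * i * (a ^ 3)⁻¹ = a * k * a⁻¹ := by
    simp only [hk, hj, pow_succ, pow_zero, one_mul]; group
  have h3 : a ^ 3 * i = i * a ^ 3 := by
    by_contra h4
    exact hP.not_eqz h (pow_mem ha 3) hiC h4 (he ▸ hak)
  exact ⟨hP.eq_three_of_cube ha hai h3, i, j, k, hi, rfl, rfl, hi2, hij, hk_eq, hall⟩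

theorem Pair.exists_two (hP : Pair p n z A C) (h : Ctx G p n) :
    ∃ B B', mem p C A B ∧ mem p C A B' ∧ B ≠ B' := by
  obtain ⟨B, hB, -⟩ := hP.exists_mem_notMem h le_rfl (hP.ne_bot h)
  have h3 := h.three
  have hB1 : B ≠ ⊥ := fun hh => by
    have := card_hyper hP.card_eq (by omega) hB.1 hB.2.1
    rw [hh, card_bot] at this
    exact (Nat.one_lt_pow (by omega) (Fact.out : p.Prime).one_lt).ne this
  obtain ⟨B', hB', hne⟩ := hP.exists_mem_notMem h hB.1 hB1
  exact ⟨B, B', hB, hB', fun hh => hne (hh ▸ le_rfl)⟩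

theorem Pair.exists_notMem_hyper (_hP : Pair p n z A C) {B : Subgroup G}
    (hB : mem p C A B) : ∃ a ∈ A, a ∉ B := by
  by_contra hc
  push Not at hc
  have h1 := relIndex_eq_one.2 (show A ≤ B from hc)
  rw [hB.2.1] at h1
  exact (Fact.out : p.Prime).ne_one h1

theorem Pair.eq_three (hP : Pair p n z A C) (h : Ctx G p n) : p = 3 := by
  obtain ⟨B, B', hB, hB', hne⟩ := hP.exists_two h
  obtain ⟨a, ha, haB⟩ := hP.exists_notMem_hyper hB
  obtain ⟨a', ha', haB'⟩ := hP.exists_notMem_hyper hB'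
  by_cases hni : ∀ x ∈ tB C A B, x * x = 1 → x ∈ zpowers z
  · exact (hP.quat_of_noinv h hB hni ha haB).1
  by_cases hni' : ∀ x ∈ tB C A B', x * x = 1 → x ∈ zpowers z
  · exact (hP.quat_of_noinv h hB' hni' ha' haB').1
  push Not at hni hni'
  obtain ⟨t, ht, ht2, htz⟩ := hni
  obtain ⟨t', ht', ht2', htz'⟩ := hni'
  exact (hP.not_two_inv h hB hB' hne ht ht2 htz ht' ht2' htz').elim

theorem Pair.noinv (hP : Pair p n z A C) (h : Ctx G p n) {B : Subgroup G} (hB : mem p C A B) :
    ∀ x ∈ tB C A B, x * x = 1 → x ∈ zpowers z := by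
  intro t ht ht2
  by_contra htz
  obtain ⟨a, ha, hat, y, -, hy2, -, rfl⟩ := hP.exists_y h hB ht ht2 htz
  have haB : a ∉ B := fun hab => hat (mem_centralizer_iff.1 (hP.tB_le hB.1 ht).2 a hab)
  rcases (mem_zpowers_involution hP.zz).1 (hP.nrm_tB h (hP.eq_three h) hB ha haB t ht) with
    h4 | h4
  · rw [h4, one_mul] at hy2; exact hP.z_ne hy2.symm
  · rw [h4, hP.zz] at hy2; exact hP.z_ne hy2.symm

/-- The quaternion structure of every moved part. -/
theorem Pair.quat (hP : Pair p n z A C) (h : Ctx G p n) {B : Subgroup G} (hB : mem p C A B)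
    {a : G} (ha : a ∈ A) (haB : a ∉ B) :
    ∃ i j k : G, i ∈ tB C A B ∧ j = a * i * a⁻¹ ∧ k = a * j * a⁻¹ ∧ i * i = z ∧
      i * j = z * (j * i) ∧ Eqz z k (i * j) ∧
      ∀ w ∈ tB C A B, Eqz z w 1 ∨ Eqz z w i ∨ Eqz z w j ∨ Eqz z w (i * j) :=
  (hP.quat_of_noinv h hB (hP.noinv h hB) ha haB).2

theorem Pair.quat_mem (hP : Pair p n z A C) (h : Ctx G p n) {B : Subgroup G}
    (hB : mem p C A B) : z ∈ tB C A B :=
  (hP.exists_noncomm_pair h hB (hP.noinv h hB)).1

/-- Every element of `C` centralized by `A` is central in `C`. -/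
theorem Pair.fixed_central (hP : Pair p n z A C) (h : Ctx G p n) {f : G} (hf : f ∈ C)
    (hfA : ∀ a ∈ A, a * f = f * a) : f ∈ C ⊓ centralizer (C : Set G) := by
  set W := C ⊓ centralizer (C : Set G) with hW
  obtain ⟨g, hg, hgA, hfg⟩ | hcen : (∃ g ∈ C, (∀ a ∈ A, a * g = g * a) ∧ f * g ≠ g * f) ∨
      f ∈ W := by
    by_contra hc
    push Not at hc
    refine hc.2 (mem_inf.2 ⟨hf, mem_centralizer_iff.2 fun x hx => ?_⟩)
    refine mem_centralizer_singleton_iff.1 ((hP.le_gen h).trans (sup_le ?_ ?_) hx :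
      x ∈ centralizer ({f} : Set G))
    · exact fun y hy => mem_centralizer_singleton_iff.2
        (hc.1 y hy.1 fun a ha => mem_centralizer_iff.1 hy.2 a ha).symm
    · exact iSup_le fun B y hy =>
        mem_centralizer_singleton_iff.2 (hP.comm_fixed_tB h B.2.1 hf hfA y hy)
  swap
  · exact hcen
  exfalso
  have hnW : ∀ {x y : G}, y ∈ C → x * y ≠ y * x → x ∉ W := fun hy hne hx =>
    hne (mem_centralizer_iff.1 hx.2 _ hy).symm
  have hfz : f * g = z * (g * f) := (hP.swapz h hf hg).resolve_left hfg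
  let φ : W →* W :=
    { toFun := fun w => w * w
      map_one' := one_mul 1
      map_mul' := fun u v => Commute.mul_mul_mul_comm
        (Subtype.ext (mem_centralizer_iff.1 u.2.2 _ v.2.1) : Commute v u) u v }
  -- squares of non-central fixed elements are not squares in `W`
  have hns : ∀ x ∈ C, (∀ a ∈ A, a * x = x * a) → x ∉ W →
      ∀ w ∈ W, x * x ≠ w * w := by
    intro x hx hxA hxW w hw he
    have hxw : Commute x w := mem_centralizer_iff.1 hw.2 x hx
    have h1 : x * w⁻¹ * (x * w⁻¹) = 1 := by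
      rw [hxw.inv_right.symm.mul_mul_mul_comm, he, ← mul_inv_rev, mul_inv_cancel]
    have hwA : ∀ a ∈ A, a * (x * w⁻¹) = x * w⁻¹ * a := fun a ha =>
      (Commute.mul_right (hxA a ha : Commute a x)
        (Commute.inv_right (hP.centre_fixed h w hw a ha : Commute a w))).eq
    rcases hP.unique_inv h (mul_mem hx (inv_mem hw.1)) h1 hwA with h2 | h2
    · exact hxW (by rw [mul_inv_eq_one] at h2; exact h2 ▸ hw)
    · exact hxW (by rw [mul_inv_eq_iff_eq_mul] at h2; exact h2 ▸ mul_mem hP.z_central hw)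
  have hfA' : ∀ a ∈ A, a * (f * g) = f * g * a := fun a ha =>
    (Commute.mul_right (hfA a ha : Commute a f) (hgA a ha : Commute a g)).eq
  have hfgW : f * g ∉ W := by
    intro hm
    have h1 : f * (f * g) = f * g * f := mem_centralizer_iff.1 hm.2 f hf
    exact hfg (mul_left_cancel (a := f) (by rw [h1, mul_assoc]))
  have hzsq : ∀ w ∈ W, w * w ≠ z := by
    intro v hv hv2
    -- the squares form a subgroup of index 2 of `W`
    have hker : Nat.card φ.ker = 2 := by
      have hzW : (⟨z, hP.z_central⟩ : W) ∈ φ.ker := Subtype.ext hP.zz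
      have hset : ∀ w : φ.ker, w = 1 ∨ w = ⟨_, hzW⟩ := by
        rintro ⟨⟨w, hw⟩, hk⟩
        have h1 : w * w = 1 := congrArg Subtype.val hk
        rcases hP.unique_inv h hw.1 h1 (hP.centre_fixed h w hw) with rfl | rfl
        · left; rfl
        · right; rfl
      refine Nat.card_eq_two_iff.2 ⟨1, ⟨_, hzW⟩, fun hh => hP.z_ne ?_, ?_⟩
      · exact (congrArg (fun w : φ.ker => ((w : W) : G)) hh).symm
      · exact Set.eq_univ_of_forall fun w => by simpa using hset w
    have hidx : φ.range.index = 2 := by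
      have h1 := φ.range.card_mul_index
      rw [← index_ker, mul_comm] at h1
      have h2 := φ.ker.card_mul_index
      rw [hker, mul_comm] at h2
      rw [← h2, mul_comm φ.ker.index 2] at h1
      exact Nat.eq_of_mul_eq_mul_right (Nat.pos_of_ne_zero FiniteIndex.index_ne_zero) h1
    have hff : (⟨f * f, hP.sq_mem f hf⟩ : W) ∉ φ.range := by
      rintro ⟨w, hw⟩
      exact hns f hf hfA (hnW hg hfg) w w.2 (congrArg Subtype.val hw).symm
    have hgg : (⟨g * g, hP.sq_mem g hg⟩ : W) ∉ φ.range := by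
      rintro ⟨w, hw⟩
      exact hns g hg hgA (hnW hf (Ne.symm hfg)) w w.2 (congrArg Subtype.val hw).symm
    obtain ⟨w, hw⟩ := (mul_mem_iff_of_index_two hidx).2 (by simp [hff, hgg] :
      ((⟨f * f, hP.sq_mem f hf⟩ : W) ∈ φ.range) ↔ (⟨g * g, hP.sq_mem g hg⟩ : W) ∈ φ.range)
    have hw' : (w : G) * w = f * f * (g * g) := congrArg Subtype.val hw
    have hvw : Commute v w := (mem_centralizer_iff.1 hv.2 w w.2.1).symm
    refine hns (f * g) (mul_mem hf hg) hfA' hfgW (v * w) (mul_mem hv w.2) ?_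
    rw [hvw.symm.mul_mul_mul_comm, hv2, hw']
    calc f * g * (f * g) = f * (g * f) * g := by group
      _ = f * (z * (f * g)) * g := by rw [hfz, ← mul_assoc z z, hP.zz, one_mul]
      _ = (f * z) * (f * (g * g)) := by group
      _ = z * (f * f * (g * g)) := by rw [← (hP.z_comm hf).eq]; group
  -- `W = ⟨z⟩`
  have hW2 : ∀ w ∈ W, w ∈ zpowers z := by
    intro w
    induction hk : orderOf w using Nat.strong_induction_on generalizing w with
    | _ k ih =>
      intro hw
      by_cases h1 : w * w = 1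
      · exact (mem_zpowers_involution hP.zz).2
          (hP.unique_inv h hw.1 h1 (hP.centre_fixed h w hw))
      have hne : w ≠ 1 := fun hh => h1 (by rw [hh, one_mul])
      obtain ⟨m, hm⟩ := (IsPGroup.iff_orderOf.1 hP.isTwo) ⟨w, hw.1⟩
      rw [orderOf_mk] at hm
      rcases m with _ | m
      · exact absurd (orderOf_eq_one_iff.1 (by simpa using hm)) hne
      have hlt : orderOf (w * w) < k := by
        have hd : (w * w) ^ (2 ^ m) = 1 := by
          rw [← pow_two, ← pow_mul, ← pow_succ', ← hm, pow_orderOf_eq_one]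
        refine lt_of_le_of_lt (orderOf_le_of_pow_eq_one (by positivity) hd) ?_
        rw [← hk, hm]
        exact Nat.pow_lt_pow_right (by norm_num) (by omega)
      rcases (mem_zpowers_involution hP.zz).1 (ih _ hlt _ rfl (mul_mem hw hw)) with h2 | h2
      · exact absurd h2 h1
      · exact absurd h2 (hzsq w hw)
  have hsq : ∀ x ∈ C, (∀ a ∈ A, a * x = x * a) → x ∉ W → x * x = z := by
    intro x hx hxA hxW
    rcases (mem_zpowers_involution hP.zz).1 (hW2 _ (hP.sq_mem x hx)) with h1 | h1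
    · exact absurd (by rw [h1, one_mul]) (hns x hx hxA hxW 1 (one_mem W))
    · exact h1
  -- a large elementary group
  obtain ⟨B, -, hB, -, -⟩ := hP.exists_two h
  obtain ⟨a, ha, haB⟩ := hP.exists_notMem_hyper hB
  obtain ⟨i, j, k, hi, rfl, -, hi2, hij, -, -⟩ := hP.quat h hB ha haB
  set j := a * i * a⁻¹ with hj
  have hjT : j ∈ tB C A B := conj_mem (hP.norm_tB ha) hi
  have hiR := hP.tB_le hB.1 hi
  have hjR := hP.tB_le hB.1 hjT
  have hfB : ∀ {x : G}, (∀ a ∈ A, a * x = x * a) → x ∈ centralizer (B : Set G) := fun hx =>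
    mem_centralizer_iff.2 fun b hb => hx b (hB.1 hb)
  have cfi : Commute f i := (hP.comm_fixed_tB h hB.1 hf hfA i hi).symm
  have cfj : Commute f j := (hP.comm_fixed_tB h hB.1 hf hfA j hjT).symm
  have cgi : Commute g i := (hP.comm_fixed_tB h hB.1 hg hgA i hi).symm
  have cgj : Commute g j := (hP.comm_fixed_tB h hB.1 hg hgA j hjT).symm
  have hj2 : j * j = z := by
    rw [hj, show a * i * a⁻¹ * (a * i * a⁻¹) = a * (i * i) * a⁻¹ by group, hi2, hP.comm_z a ha,
      mul_inv_cancel_right]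
  have hu2 : f * i * (f * i) = 1 := by
    rw [cfi.symm.mul_mul_mul_comm, hi2, hsq f hf hfA (hnW hg hfg), hP.zz]
  have hv2 : g * j * (g * j) = 1 := by
    rw [cgj.symm.mul_mul_mul_comm, hj2, hsq g hg hgA (hnW hf (Ne.symm hfg)), hP.zz]
  have huv : f * i * (g * j) = g * j * (f * i) := by
    calc f * i * (g * j) = (f * g) * (i * j) := cgi.symm.mul_mul_mul_comm f j
      _ = (z * (g * f)) * (z * (j * i)) := by rw [hfz, hij]
      _ = (z * z) * ((g * f) * (j * i)) :=
        (hP.z_comm (mul_mem hg hf)).symm.mul_mul_mul_comm z (j * i)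
      _ = g * j * (f * i) := by rw [hP.zz, one_mul]; exact cfj.mul_mul_mul_comm g i
  -- elements `g' x` with `x` moved are not central
  have hmov : ∀ {x x' : G}, x' ∈ C → (∀ a ∈ A, a * x' = x' * a) → x ∈ tB C A B →
      (∃ y ∈ tB C A B, x * y ≠ y * x) → x' * x ∉ zpowers z := by
    rintro x x' hx' hx'A hx ⟨y, hy, hxy⟩ hm
    have hxA : ∀ a ∈ A, a * x = x * a := by
      intro a ha
      rw [show x = x'⁻¹ * (x' * x) by rw [inv_mul_cancel_left]]
      refine (Commute.mul_right (Commute.inv_right (hx'A a ha)) ?_).eq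
      rcases (mem_zpowers_involution hP.zz).1 hm with h1 | h1 <;> rw [h1]
      · exact Commute.one_right a
      · exact hP.comm_z a ha
    exact hxy (hP.comm_fixed_tB h hB.1 (hP.tB_le hB.1 hx).1 hxA y hy).symm
  have hij' : i * j ≠ j * i := fun hc => by
    rw [hc] at hij
    exact hP.z_ne (mul_eq_right.1 hij.symm)
  have hcu : ∀ e ∈ zpowers z, e * (f * i) = f * i * e := fun e he => by
    rcases (mem_zpowers_involution hP.zz).1 he with h1 | h1 <;> rw [h1]
    · simp
    · exact (hP.z_comm (mul_mem hf hiR.1)).eq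
  obtain ⟨hE, hEc⟩ := elem_insert hP.elem_z hu2 hcu (hmov hf hfA hi ⟨j, hjT, hij'⟩)
  have hcv : ∀ e ∈ zpowers z ⊔ zpowers (f * i), e * (g * j) = g * j * e := by
    have hle : zpowers z ⊔ zpowers (f * i) ≤ centralizer ({g * j} : Set G) :=
      sup_le (zpowers_le.2 (mem_centralizer_singleton_iff.2
        (hP.z_comm (mul_mem hg hjR.1)).eq)) (zpowers_le.2 (mem_centralizer_singleton_iff.2 huv))
    exact fun e he => mem_centralizer_singleton_iff.1 (hle he)
  have hvnot : g * j ∉ zpowers z ⊔ zpowers (f * i) := by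
    intro hm
    rcases mem_elem_insert hu2 hcu hm with h1 | h1
    · exact hmov hg hgA hjT ⟨i, hi, Ne.symm hij'⟩ h1
    · refine hmov (x := j * i) (x' := g * f) (mul_mem hg hf) ?_ (mul_mem hjT hi) ⟨i, hi, ?_⟩ ?_
      · exact fun a ha => (Commute.mul_right (hgA a ha) (hfA a ha : Commute a f)).eq
      · intro hc
        rw [← mul_assoc i j i, mul_left_inj] at hc
        exact hij' hc.symm
      · rwa [cfj.mul_mul_mul_comm g i]
  obtain ⟨hE', hE'c⟩ := elem_insert hE hv2 hcv hvnot
  rw [hEc, hP.card_z] at hE'c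
  have hzB : z ∈ centralizer (B : Set G) := hfB hP.comm_z
  have := hP.rank_hyper h hB.1 hB.2.1 hE' (e := 3)
    (sup_le (sup_le (zpowers_le.2 hzB) (zpowers_le.2 (mul_mem (hfB hfA) hiR.2)))
      (zpowers_le.2 (mul_mem (hfB hgA) hjR.2)))
    (by rw [hE'c]; rfl)
  omega

end CfsgLib.Classif.KM
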