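import Mathlib.GroupTheory.QuotientGroup.Basic
import Mathlib.GroupTheory.Index
import Mathlib.Algebra.Group.Hom.End
import Mathlib.GroupTheory.Commutator.Basic
import Mathlib.Tactic.NoncommRing
import Mathlib.Tactic.Group
import Mathlib.Tactic.Abel
import Mathlib.Tactic.Ring
import Mathlib.SetTheory.Cardinal.Finite

/-!
# Klinger-Mason: a quaternion group extended by a fixed-point-free element of order 3

If `⟨i, j⟩` is quaternion with centre `z` and `b` cycles `i, j, k` and has no fixed points on an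
elementary abelian 2-group `M`, then `(1 + z)M` has order at most the cube root of that of `M`.
-/

set_option autoImplicit false

namespace CfsgLib.Classif.KM

open scoped commutatorElement

theorem ring_key {R : Type*} [Ring R] (h2 : ∀ x : R, x + x = 0) {I J K B Z : R}
    (hB : B * B + B + 1 = 0) (hBI : B * I = J * B) (hBJ : B * J = K * B) (hBK : B * K = I * B)
    (hI : I * I = Z) (hJ : J * J = Z) (hK : K * K = Z) (hZ : Z * Z = 1)
    (hJK : J * K = Z * (K * J)) (hKI : K * I = Z * (I * K))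
    (hKeq : K = I * J ∨ K = Z * (I * J)) :
    (I + 1) * (I + 1) = 1 + Z ∧ (1 + Z) * (I + 1) = 0 := by
  have hn : (I + 1) * (I + 1) = 1 + Z := by
    rw [show (I + 1) * (I + 1) = I * I + 1 + (I + I) by noncomm_ring, hI, h2 I, add_zero, add_comm]
  refine ⟨hn, ?_⟩
  set ζ := 1 + Z with hζ
  have hζZ : ζ * Z = ζ := by rw [hζ, add_mul, one_mul, hZ, add_comm]
  have hB2 : B * B = B + 1 := by
    calc B * B = B * B + B + 1 + (B + 1) := by
          rw [add_assoc (B * B) B 1, add_assoc, h2, add_zero]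
      _ = B + 1 := by rw [hB, zero_add]
  have hB3 : B * B * B = 1 := by
    rw [hB2, add_mul, one_mul, hB2, add_comm B 1, add_assoc, h2, add_zero]
  have hB3' : B * (B * B) = 1 := by rw [← mul_assoc, hB3]
  have hJe : J = B * I * B + B * I := by
    calc J = J * B * (B * B) := by rw [mul_assoc, hB3', mul_one]
      _ = B * I * (B + 1) := by rw [← hBI, hB2]
      _ = _ := by rw [mul_add, mul_one]
  have hKe : K = B * I * B + I * B := by
    calc K = B * B * B * K := by rw [hB3, one_mul]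
      _ = (B + 1) * (I * B) := by rw [mul_assoc (B * B), hBK, hB2]
      _ = _ := by rw [add_mul, one_mul, mul_assoc]
  set E := B * I + I * B with hEdef
  have hE : J + K = E := by
    rw [hJe, hKe, hEdef,
      show B * I * B + B * I + (B * I * B + I * B) = B * I * B + B * I * B + (B * I + I * B) by abel,
      h2, zero_add]
  have hEB : E * B = I + K := by
    rw [hEdef, hKe, add_mul, mul_assoc I B B, hB2, mul_add, mul_one]
    abel
  have hBBE : B * B * E = I + K := by
    have h1 : B * B * (B * I) = I := by rw [← mul_assoc, hB3, one_mul]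
    rw [hEdef, hKe, mul_add, h1, hB2, add_mul, one_mul, ← mul_assoc B I B]
  have hsq : (I + K) * (I + K) = E * E := by
    nth_rewrite 1 [← hEB]
    rw [← hBBE, mul_assoc E B, ← mul_assoc B (B * B), hB3', one_mul]
  have hζI : ζ * I = I * ζ := by rw [hζ, add_mul, mul_add, ← hI, mul_assoc, one_mul, mul_one]
  have hζJ : ζ * J = J * ζ := by rw [hζ, add_mul, mul_add, ← hJ, mul_assoc, one_mul, mul_one]
  have hζK : ζ * K = K * ζ := by rw [hζ, add_mul, mul_add, ← hK, mul_assoc, one_mul, mul_one]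
  have hE2 : E * E = ζ * (K * J) := by
    rw [← hE, show (J + K) * (J + K) = (J * J + K * K) + (J * K + K * J) by noncomm_ring, hJ, hK,
      h2, zero_add, hJK, hζ, add_mul, one_mul, add_comm]
  have hIK : (I + K) * (I + K) = ζ * (K * I) := by
    rw [show (I + K) * (I + K) = (I * I + K * K) + (I * K + K * I) by noncomm_ring, hI, hK, h2,
      zero_add, hKI, ← mul_assoc ζ Z, hζZ]
    rw [hζ, add_mul, one_mul]
  have heq : ζ * J = ζ * I := by
    have h1 : ζ * (K * J) = ζ * (K * I) := by rw [← hE2, ← hsq, hIK]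
    have h3 := congrArg (fun u => K * u) h1
    simp only [← mul_assoc, ← hζK] at h3
    rwa [mul_assoc ζ K K, hK, hζZ] at h3
  have hBζ : B * ζ = ζ * B := by
    have hBZ : B * Z = Z * B := by
      calc B * Z = B * I * I := by rw [mul_assoc, hI]
        _ = J * (B * I) := by rw [← mul_assoc J B I, ← hBI]
        _ = Z * B := by rw [hBI, ← mul_assoc, hJ]
    rw [hζ, mul_add, add_mul, hBZ, mul_one, one_mul]
  have h4 : ζ * K = ζ * J := by
    have h5 := congrArg (fun u => B * u) heq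
    simp only [← mul_assoc, hBζ] at h5
    rw [mul_assoc ζ B J, mul_assoc ζ B I, hBJ, hBI, ← mul_assoc, ← mul_assoc] at h5
    calc ζ * K = ζ * K * B * (B * B) := by rw [mul_assoc _ B, hB3', mul_one]
      _ = ζ * J * B * (B * B) := by rw [h5]
      _ = ζ * J := by rw [mul_assoc _ B, hB3', mul_one]
  have h6 : ζ * K = ζ := by
    have hij : ζ * K = ζ * (I * J) := by
      rcases hKeq with h | h
      · rw [h]
      · rw [h, ← mul_assoc, hζZ]
    rw [hij, ← mul_assoc, hζI, mul_assoc, heq, ← mul_assoc, ← hζI, mul_assoc, hI, hζZ]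
  rw [mul_add, mul_one, ← heq, ← h4, h6, h2]

section

variable {V : Type*} [AddCommGroup V] [Finite V]

theorem card_range_cube (f : V →+ V) (hf : f.comp (f.comp f) = 0) :
    Nat.card (f.comp f).range ^ 3 ≤ Nat.card V := by
  let g : f.range →+ V := f.comp f.range.subtype
  set r := Nat.card (f.comp f).range
  have h1 : Nat.card f.ker * Nat.card f.range = Nat.card V := by
    rw [← AddSubgroup.index_ker, AddSubgroup.card_mul_index]
  have h2 : Nat.card g.ker * Nat.card g.range = Nat.card f.range := by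
    rw [← AddSubgroup.index_ker, AddSubgroup.card_mul_index]
  have hg : g.range = (f.comp f).range := by
    ext x
    constructor
    · rintro ⟨⟨_, v, rfl⟩, rfl⟩; exact ⟨v, rfl⟩
    · rintro ⟨v, rfl⟩; exact ⟨⟨f v, v, rfl⟩, rfl⟩
  have hker : ∀ x ∈ (f.comp f).range, f x = 0 ∧ x ∈ f.range := by
    rintro _ ⟨v, rfl⟩
    exact ⟨DFunLike.congr_fun hf v, f v, rfl⟩
  have h3 : r ≤ Nat.card g.ker :=
    Nat.card_le_card_of_injective
      (fun x => (⟨⟨x, (hker x x.2).2⟩, (hker x x.2).1⟩ : g.ker))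
      fun x y h => Subtype.ext (congrArg (fun u : g.ker => ((u : f.range) : V)) h)
  have h4 : r ≤ Nat.card f.ker :=
    Nat.card_le_card_of_injective (fun x => (⟨x, (hker x x.2).1⟩ : f.ker))
      fun x y h => Subtype.ext (congrArg (fun u : f.ker => (u : V)) h)
  rw [← h1, ← h2, hg, show r ^ 3 = r * (r * r) by ring]
  exact Nat.mul_le_mul h4 (Nat.mul_le_mul h3 le_rfl)

end

variable {G : Type*} [Group G] [Finite G]

open Subgroup in
theorem fpf_bound {D W : Subgroup G} (hWD : W ≤ D)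
    (hcomm : ∀ x ∈ D, ∀ y ∈ D, ⁅x, y⁆ ∈ W) (hsq : ∀ x ∈ D, x * x ∈ W) {z i j k b : G}
    (hi : i * i = z) (hzz : z * z = 1) (hbz : b * z = z * b) (hj : j = b * i * b⁻¹)
    (hk : k = b * j * b⁻¹) (hb3 : b * b * b = 1) (hij : i * j = z * (j * i))
    (hkij : k = i * j ∨ k = z * (i * j))
    (hiD : i ∈ normalizer (D : Set G)) (hiW : i ∈ normalizer (W : Set G))
    (hbD : b ∈ normalizer (D : Set G)) (hbW : b ∈ normalizer (W : Set G))
    (hfpf : ∀ x ∈ D, x * (b * x * b⁻¹) * (b * (b * x * b⁻¹) * b⁻¹) ∈ W)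
    {U : Subgroup G} (hUD : U ≤ D) (hinj : ∀ u ∈ U, u⁻¹ * (z * u * z⁻¹) ∈ W → u ∈ W) :
    W.relIndex U ^ 3 ≤ W.relIndex D := by
  have : (W.subgroupOf D).Normal := ⟨fun w hw g => by
    have : ⁅(g : G), (w : G)⁆ * w ∈ W :=
      mul_mem (hcomm g g.2 w w.2) (mem_subgroupOf.1 hw)
    rw [mem_subgroupOf, Subgroup.coe_mul, Subgroup.coe_mul, Subgroup.coe_inv]
    rwa [commutatorElement_def, inv_mul_cancel_right] at this⟩
  letI : CommGroup (↥D ⧸ W.subgroupOf D) :=
    { (inferInstance : Group (↥D ⧸ W.subgroupOf D)) with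
      mul_comm := fun a b => by
        induction a using QuotientGroup.induction_on with
        | _ a =>
        induction b using QuotientGroup.induction_on with
        | _ b =>
        rw [← QuotientGroup.mk_mul, ← QuotientGroup.mk_mul, QuotientGroup.eq, mem_subgroupOf]
        have := hcomm (b : G)⁻¹ (inv_mem b.2) (a : G)⁻¹ (inv_mem a.2)
        simpa [commutatorElement_def, mul_assoc] using this }
  let conjD : ∀ g : G, g ∈ normalizer (D : Set G) → (↥D →* ↥D) := fun g hg =>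
    { toFun := fun x => ⟨g * x * g⁻¹, (mem_normalizer_iff.1 hg x).1 x.2⟩
      map_one' := Subtype.ext (by simp)
      map_mul' := fun x y => Subtype.ext (by simp [mul_assoc]) }
  let act : ∀ g : G, g ∈ normalizer (D : Set G) → g ∈ normalizer (W : Set G) →
      AddMonoid.End (Additive (↥D ⧸ W.subgroupOf D)) := fun g hg hg' =>
    MonoidHom.toAdditive (QuotientGroup.map _ _ (conjD g hg)
      fun x hx => mem_subgroupOf.2 ((mem_normalizer_iff.1 hg' (x : G)).1 (mem_subgroupOf.1 hx)))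
  let π : ↥D → Additive (↥D ⧸ W.subgroupOf D) := fun x =>
    Additive.ofMul (QuotientGroup.mk x)
  have act_π : ∀ g hg hg' x,
      act g hg hg' (π x) = π ⟨g * x * g⁻¹, (mem_normalizer_iff.1 hg x).1 x.2⟩ :=
    fun _ _ _ _ => rfl
  have π_surj : ∀ v, ∃ x, π x = v := fun v => by
    obtain ⟨x, hx⟩ := QuotientGroup.mk_surjective (Additive.toMul v)
    exact ⟨x, hx⟩
  have act_mul : ∀ g hg hg' g' hg2 hg2' h h',
      act g hg hg' * act g' hg2 hg2' = act (g * g') h h' := by
    intro g hg hg' g' hg2 hg2' h h'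
    refine AddMonoidHom.ext fun v => ?_
    obtain ⟨x, rfl⟩ := π_surj v
    show π _ = π _
    exact congrArg π (Subtype.ext (show g * (g' * (x : G) * g'⁻¹) * g⁻¹ =
      g * g' * (x : G) * (g * g')⁻¹ by group))
  have act_one : ∀ h h', act 1 h h' = 1 := by
    intro h h'
    refine AddMonoidHom.ext fun v => ?_
    obtain ⟨x, rfl⟩ := π_surj v
    show π _ = π x
    exact congrArg π (Subtype.ext (show (1 : G) * (x : G) * 1⁻¹ = x by simp))
  have h2 : ∀ f : AddMonoid.End (Additive (↥D ⧸ W.subgroupOf D)), f + f = 0 := by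
    intro f
    refine AddMonoidHom.ext fun v => ?_
    obtain ⟨x, hx⟩ := π_surj (f v)
    show f v + f v = 0
    rw [← hx]
    exact congrArg Additive.ofMul
      ((QuotientGroup.eq_one_iff (x * x)).2 (mem_subgroupOf.2 (hsq x x.2)))
  have hzD : z ∈ normalizer (D : Set G) := hi ▸ mul_mem hiD hiD
  have hzW : z ∈ normalizer (W : Set G) := hi ▸ mul_mem hiW hiW
  have hjD : j ∈ normalizer (D : Set G) := hj ▸ mul_mem (mul_mem hbD hiD) (inv_mem hbD)
  have hjW : j ∈ normalizer (W : Set G) := hj ▸ mul_mem (mul_mem hbW hiW) (inv_mem hbW)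
  have hkD : k ∈ normalizer (D : Set G) := hk ▸ mul_mem (mul_mem hbD hjD) (inv_mem hbD)
  have hkW : k ∈ normalizer (W : Set G) := hk ▸ mul_mem (mul_mem hbW hjW) (inv_mem hbW)
  have hbk : b * k = i * b := by
    have e : b * k * b⁻¹ = b * b * b * i * (b * b * b)⁻¹ := by rw [hk, hj]; group
    rw [hb3, one_mul, inv_one, mul_one] at e
    rw [← e, inv_mul_cancel_right]
  have hbi : b * i = j * b := by rw [hj, inv_mul_cancel_right]
  have hbj : b * j = k * b := by rw [hk, inv_mul_cancel_right]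
  have hbzi : b * z * b⁻¹ = z := by rw [hbz, mul_inv_cancel_right]
  have hj2 : j * j = z := by
    rw [hj, show b * i * b⁻¹ * (b * i * b⁻¹) = b * (i * i) * b⁻¹ by group, hi, hbzi]
  have hk2 : k * k = z := by
    rw [hk, show b * j * b⁻¹ * (b * j * b⁻¹) = b * (j * j) * b⁻¹ by group, hj2, hbzi]
  have hjk : j * k = z * (k * j) := by
    calc j * k = b * (i * j) * b⁻¹ := by rw [hk, hj]; group
      _ = (b * z * b⁻¹) * ((b * j * b⁻¹) * (b * i * b⁻¹)) := by rw [hij]; group
      _ = z * (k * j) := by rw [hbzi, ← hk, ← hj]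
  have hki : k * i = z * (i * k) := by
    have hi' : i = b * k * b⁻¹ := by rw [hbk, mul_inv_cancel_right]
    calc k * i = b * j * b⁻¹ * (b * k * b⁻¹) := by rw [← hk, ← hi']
      _ = b * (j * k) * b⁻¹ := by group
      _ = (b * z * b⁻¹) * ((b * k * b⁻¹) * (b * j * b⁻¹)) := by rw [hjk]; group
      _ = z * (i * k) := by rw [hbzi, ← hk, ← hi']
  set I := act i hiD hiW
  set B := act b hbD hbW
  set Z := act z hzD hzW
  have hB : B * B + B + 1 = 0 := by
    refine AddMonoidHom.ext fun v => ?_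
    obtain ⟨x, rfl⟩ := π_surj v
    have m1 : b * (x : G) * b⁻¹ ∈ D := (mem_normalizer_iff.1 hbD _).1 x.2
    have m2 : b * (b * (x : G) * b⁻¹) * b⁻¹ ∈ D := (mem_normalizer_iff.1 hbD _).1 m1
    show π ⟨_, m2⟩ + π ⟨_, m1⟩ + π x = 0
    rw [add_comm (π ⟨_, m2⟩), add_comm, ← add_assoc]
    have hmem : x * (⟨_, m1⟩ : ↥D) * (⟨_, m2⟩ : ↥D) ∈ W.subgroupOf D :=
      mem_subgroupOf.2 (hfpf x x.2)
    exact congrArg Additive.ofMul ((QuotientGroup.eq_one_iff _).2 hmem)
  let N : Subgroup G := normalizer (D : Set G) ⊓ normalizer (W : Set G)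
  let ρ : N →* AddMonoid.End (Additive (↥D ⧸ W.subgroupOf D)) :=
    { toFun := fun g => act g g.2.1 g.2.2
      map_one' := act_one (one_mem _) (one_mem _)
      map_mul' := fun g g' => (act_mul g g.2.1 g.2.2 g' g'.2.1 g'.2.2 (mul_mem g.2.1 g'.2.1)
        (mul_mem g.2.2 g'.2.2)).symm }
  set ni : N := ⟨i, hiD, hiW⟩
  set nj : N := ⟨j, hjD, hjW⟩
  set nk : N := ⟨k, hkD, hkW⟩
  set nb : N := ⟨b, hbD, hbW⟩
  set nz : N := ⟨z, hzD, hzW⟩
  have lift : ∀ {u v : N}, (u : G) = v → ρ u = ρ v := fun h => congrArg ρ (Subtype.ext h)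
  obtain ⟨hsqI, hnil⟩ := ring_key h2 (I := ρ ni) (J := ρ nj) (K := ρ nk) (B := ρ nb) (Z := ρ nz)
    hB
    (by rw [← map_mul, ← map_mul]; exact lift hbi)
    (by rw [← map_mul, ← map_mul]; exact lift hbj)
    (by rw [← map_mul, ← map_mul]; exact lift hbk)
    (by rw [← map_mul]; exact lift hi)
    (by rw [← map_mul]; exact lift hj2)
    (by rw [← map_mul]; exact lift hk2)
    (by rw [← map_mul, ← map_one ρ]; exact lift hzz)
    (by rw [← map_mul, ← map_mul, ← map_mul]; exact lift hjk)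
    (by rw [← map_mul, ← map_mul, ← map_mul]; exact lift hki)
    (by
      rcases hkij with h | h
      · left; rw [← map_mul]; exact lift h
      · right; rw [← map_mul, ← map_mul]; exact lift h)
  have hnil' : (I + 1) * ((I + 1) * (I + 1)) = 0 := by
    rw [← mul_assoc]
    show (ρ ni + 1) * (ρ ni + 1) * (ρ ni + 1) = 0
    rw [hsqI, hnil]
  have : Finite (Additive (↥D ⧸ W.subgroupOf D)) :=
    Finite.of_equiv (↥D ⧸ W.subgroupOf D) Additive.ofMul
  let F : AddMonoid.End (Additive (↥D ⧸ W.subgroupOf D)) := I + 1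
  have hcube := card_range_cube (V := Additive (↥D ⧸ W.subgroupOf D)) F hnil'
  have hsq' : (I + 1) * (I + 1) = 1 + Z := hsqI
  change Nat.card (AddMonoidHom.range ((I + 1) * (I + 1) :
    AddMonoid.End (Additive (↥D ⧸ W.subgroupOf D)))) ^ 3 ≤ _ at hcube
  rw [hsq'] at hcube
  refine le_trans (Nat.pow_le_pow_left ?_ 3) hcube
  rw [relIndex, index_eq_card]
  let ψ : ↥U → AddMonoidHom.range (1 + Z : AddMonoid.End (Additive (↥D ⧸ W.subgroupOf D))) :=
    fun u => ⟨(1 + Z : AddMonoid.End _) (π ⟨u, hUD u.2⟩), ⟨_, rfl⟩⟩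
  have hψ : ∀ u v : ↥U, ψ u = ψ v → (u : ↥U ⧸ W.subgroupOf U) = (v : ↥U ⧸ W.subgroupOf U) := by
    intro u v huv
    rw [QuotientGroup.eq, mem_subgroupOf]
    refine hinj _ (u⁻¹ * v).2 ?_
    have h0 : (1 + Z : AddMonoid.End _) (π ⟨u, hUD u.2⟩) =
        (1 + Z : AddMonoid.End _) (π ⟨v, hUD v.2⟩) := congrArg Subtype.val huv
    have hd : (1 + Z : AddMonoid.End _) (π ⟨(u⁻¹ * v : ↥U), hUD (u⁻¹ * v).2⟩) = 0 := by
      have he : π ⟨(u⁻¹ * v : ↥U), hUD (u⁻¹ * v).2⟩ = -π ⟨u, hUD u.2⟩ + π ⟨v, hUD v.2⟩ := rfl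
      rw [he, map_add, map_neg, h0, neg_add_cancel]
    set w : ↥U := u⁻¹ * v
    have h1 : π ⟨w, hUD w.2⟩ + π ⟨z * (w : G) * z⁻¹, (mem_normalizer_iff.1 hzD _).1 (hUD w.2)⟩ = 0 :=
      hd
    have hwm : (⟨w, hUD w.2⟩ : ↥D) *
        (⟨z * (w : G) * z⁻¹, (mem_normalizer_iff.1 hzD _).1 (hUD w.2)⟩ : ↥D) ∈ W.subgroupOf D :=
      (QuotientGroup.eq_one_iff _).1 (congrArg Additive.toMul h1)
    rw [mem_subgroupOf] at hwm
    have h3 := mul_mem (inv_mem (hsq w (hUD w.2))) hwm
    simpa [mul_assoc] using h3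
  exact Nat.card_le_card_of_injective (fun q => ψ q.out) fun a b h => by
    simpa using hψ _ _ h

end CfsgLib.Classif.KM
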