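import Cfsg.Agent.Lib.Classif.KlingerMason.Basic
import Cfsg.Agent.Lib.PGroup.Critical
import Cfsg.Agent.Lib.Techniques.Basic

/-!
# Klinger-Mason: an involution centralized by an extreme elementary abelian `p`-group
-/

set_option autoImplicit false
set_option linter.unusedSectionVars false

namespace CfsgLib.Classif.KM

open Subgroup CfsgLib.LocalEvenCharP
open scoped commutatorElement

variable {G : Type*} [Group G] [Finite G]

/-- A critical subgroup of `O_2(L)` inside `G`, for `L` of characteristic 2. -/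
theorem exists_critical_in {L : Subgroup G} (hL : IsCharP 2 ↥L) :
    ∃ C : Subgroup G, C ≤ Cfsg.pCoreOf 2 L ∧ IsPGroup 2 C ∧ L ≤ normalizer (C : Set G) ∧
      Cfsg.pCoreOf 2 L ⊓ centralizer (C : Set G) ≤ C ∧
      (∀ x ∈ C, ∀ y ∈ C, ⁅x, y⁆ ∈ C ⊓ centralizer (C : Set G)) ∧
      (∀ x ∈ C, x * x ∈ C ⊓ centralizer (C : Set G)) ∧
      (∀ c ∈ L, (orderOf c).Coprime 2 → (∀ x ∈ C, c * x = x * c) → c = 1) := by
  have : Fact (Nat.Prime 2) := ⟨Nat.prime_two⟩
  set Q := Cfsg.pCoreOf 2 L
  have hQ : IsPGroup 2 Q := isPGroup_pCoreOf 2 L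
  obtain ⟨H, hH, hcH, hcomm, hsq⟩ := CfsgLib.PGroup.exists_critical (p := 2) hQ
  set C := H.map Q.subtype with hC
  have hCQ : C ≤ Q := map_subtype_le H
  have hcen : ∀ x ∈ H ⊓ centralizer (H : Set Q), (x : G) ∈ C ⊓ centralizer (C : Set G) := by
    intro x hx
    refine mem_inf.2 ⟨⟨x, hx.1, rfl⟩, mem_centralizer_iff.2 ?_⟩
    rintro _ ⟨h, hh, rfl⟩
    exact congrArg Subtype.val (mem_centralizer_iff.1 hx.2 h hh)
  have hfix : Q ⊓ centralizer (C : Set G) ≤ C := by
    rintro x ⟨hxQ, hx⟩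
    refine ⟨⟨x, hxQ⟩, hcH (mem_centralizer_iff.2 fun h hh => Subtype.ext ?_), rfl⟩
    exact mem_centralizer_iff.1 hx h ⟨h, hh, rfl⟩
  have hnorm : L ≤ normalizer (C : Set G) := by
    refine le_normalizer_iff.2 fun l hl x hx => ?_
    obtain ⟨h, hh, rfl⟩ := hx
    have hl1 : l ∈ normalizer (Q : Set G) := le_normalizer_pCoreOf 2 L hl
    have hl2 : l⁻¹ ∈ normalizer (Q : Set G) := inv_mem hl1
    let φ : Q ≃* Q :=
      { toFun := fun q => ⟨l * q * l⁻¹, conj_mem hl1 q.2⟩
        invFun := fun q => ⟨l⁻¹ * q * l⁻¹⁻¹, conj_mem hl2 q.2⟩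
        left_inv := fun q => Subtype.ext (by simp [mul_assoc])
        right_inv := fun q => Subtype.ext (by simp [mul_assoc])
        map_mul' := fun a b => Subtype.ext (by simp [mul_assoc]) }
    exact ⟨φ h, characteristic_iff_le_comap.1 hH φ hh, rfl⟩
  refine ⟨C, hCQ, hQ.to_le hCQ, hnorm, hfix, ?_, ?_, ?_⟩
  · rintro _ ⟨x, -, rfl⟩ _ ⟨y, hy, rfl⟩
    exact hcen ⁅x, y⁆ (hcomm x y hy)
  · rintro _ ⟨x, hx, rfl⟩
    have := hcen (x ^ 2) (hsq x hx)
    rwa [Subgroup.coe_pow, pow_two] at this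
  · intro c hcL hc hfx
    refine hL.eq_one_subgroup hcL hc ?_
    refine commute_of_fixes_centralizer hQ (hQ.to_le hCQ) (hCQ.trans le_normalizer) hc
      (le_normalizer_pCoreOf 2 L hcL) hfx fun x hx hxC => hfx x ?_
    exact hfix (mem_inf.2 ⟨hx, mem_centralizer_iff.2 hxC⟩)

omit [Finite G] in
theorem conj_pow_shift {a x d : G} (hd : a * d = d * a) (h : a * x * a⁻¹ = x * d) (i : ℕ) :
    a ^ i * x * (a ^ i)⁻¹ = x * d ^ i := by
  induction i with
  | zero => simp
  | succ i ih =>
    calc a ^ (i + 1) * x * (a ^ (i + 1))⁻¹ = a * (a ^ i * x * (a ^ i)⁻¹) * a⁻¹ := by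
          rw [pow_succ']; group
      _ = a * (x * d ^ i) * a⁻¹ := by rw [ih]
      _ = (a * x * a⁻¹) * (a * d ^ i * a⁻¹) := by group
      _ = x * d * d ^ i := by rw [h, (Commute.pow_right hd i).eq, mul_inv_cancel_right]
      _ = x * d ^ (i + 1) := by rw [pow_succ', mul_assoc]

omit [Finite G] in
/-- An element of odd order fixing `x` up to an involution it centralizes fixes `x`. -/
theorem shift_eq_one {p : ℕ} (hp : Odd p) {a x d : G} (ha : a ^ p = 1) (hd : a * d = d * a)
    (hd2 : d * d = 1) (h : a * x * a⁻¹ = x * d) : d = 1 := by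
  have h1 := conj_pow_shift hd h p
  rw [ha] at h1
  simp only [one_mul, inv_one, mul_one, left_eq_mul] at h1
  obtain ⟨m, rfl⟩ := hp
  rwa [pow_add, pow_mul, pow_two, hd2, one_pow, one_mul, pow_one] at h1

/-- The fixed points of a subgroup `B` in `C`. -/
def cB (C B : Subgroup G) : Subgroup G := C ⊓ centralizer (B : Set G)

/-- The part of `cB C B` moved by `A`. -/
def tB (C A B : Subgroup G) : Subgroup G := ⁅cB C B, A⁆

/-- The hyperplanes with nontrivial moved part. -/
def mem (p : ℕ) (C A B : Subgroup G) : Prop := B ≤ A ∧ B.relIndex A = p ∧ tB C A B ≠ ⊥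

/-- An involution `z`, an extreme `A` centralizing it and a suitable 2-subgroup `C` of `C(z)`. -/
structure Pair (p n : ℕ) (z : G) (A C : Subgroup G) : Prop where
  inv : orderOf z = 2
  elem : Cfsg.IsElementaryAbelian p A
  card_eq : Nat.card A = p ^ n
  comm_z : ∀ a ∈ A, a * z = z * a
  isTwo : IsPGroup 2 C
  norm : centralizer ({z} : Set G) ≤ normalizer (C : Set G)
  cent_z : ∀ x ∈ C, x * z = z * x
  z_mem : z ∈ C
  faithful : ∀ a ∈ A, (∀ x ∈ C, a * x = x * a) → a = 1
  comm_mem : ∀ x ∈ C, ∀ y ∈ C, ⁅x, y⁆ ∈ C ⊓ centralizer (C : Set G)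
  sq_mem : ∀ x ∈ C, x * x ∈ C ⊓ centralizer (C : Set G)

theorem elem_insert {E : Subgroup G} (hE : Cfsg.IsElementaryAbelian 2 E) {x : G} (hx : x * x = 1)
    (hc : ∀ e ∈ E, e * x = x * e) (hxE : x ∉ E) :
    Cfsg.IsElementaryAbelian 2 (E ⊔ zpowers x) ∧
      Nat.card ↥(E ⊔ zpowers x) = 2 * Nat.card E := by
  have hcz : E ≤ centralizer (zpowers x : Set G) := by
    rw [zpowers_eq_closure, centralizer_closure]
    exact fun e he => mem_centralizer_singleton_iff.2 (hc e he)
  have hxo : orderOf x = 2 := orderOf_eq_prime (hp := ⟨Nat.prime_two⟩) (by rw [pow_two, hx])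
    fun h => hxE (h ▸ one_mem E)
  have hinf : E ⊓ zpowers x = ⊥ := by
    refine (eq_bot_iff_forall _).2 fun u hu => ?_
    obtain ⟨i, rfl⟩ := mem_zpowers_iff.1 hu.2
    rcases Int.even_or_odd i with ⟨k, rfl⟩ | ⟨k, rfl⟩
    · rw [zpow_add, ← (Commute.refl x).mul_zpow, hx, one_zpow]
    · refine absurd hu.1 ?_
      rwa [zpow_add, two_mul, zpow_add, ← (Commute.refl x).mul_zpow, hx, one_zpow, one_mul,
        zpow_one]
  refine ⟨elem_sup hE (elem_zpowers (by rw [pow_two, hx])) hcz, ?_⟩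
  rw [card_sup_of_disjoint hcz hinf, Nat.card_zpowers, hxo, mul_comm]

omit [Finite G] in
theorem mem_zpowers_involution {x u : G} (hx : x * x = 1) :
    u ∈ zpowers x ↔ u = 1 ∨ u = x := by
  constructor
  · intro hu
    obtain ⟨i, rfl⟩ := mem_zpowers_iff.1 hu
    rcases Int.even_or_odd i with ⟨k, rfl⟩ | ⟨k, rfl⟩
    · left; rw [zpow_add, ← (Commute.refl x).mul_zpow, hx, one_zpow]
    · right
      rw [zpow_add, two_mul, zpow_add, ← (Commute.refl x).mul_zpow, hx, one_zpow, one_mul,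
        zpow_one]
  · rintro (rfl | rfl)
    · exact one_mem _
    · exact mem_zpowers _

theorem elem_pow_card {p : ℕ} [Fact p.Prime] {A : Subgroup G}
    (hA : Cfsg.IsElementaryAbelian p A) : ∃ k, Nat.card A = p ^ k :=
  (isPGroup_of_elem hA).exists_card_eq

theorem card_hyper {p n : ℕ} [Fact p.Prime] {A B : Subgroup G} (hA : Nat.card A = p ^ n)
    (hn : 1 ≤ n) (hBA : B ≤ A) (hB : B.relIndex A = p) : Nat.card B = p ^ (n - 1) := by
  have h := relIndex_mul_relIndex ⊥ B A bot_le hBA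
  rw [relIndex_bot_left, relIndex_bot_left, hA, hB, ← Nat.sub_add_cancel hn, pow_succ] at h
  exact Nat.eq_of_mul_eq_mul_right (Fact.out : p.Prime).pos h

variable {p n : ℕ} [Fact p.Prime] {z : G} {A C : Subgroup G}

theorem Pair.zz (hP : Pair p n z A C) : z * z = 1 := by
  rw [← pow_two, ← hP.inv, pow_orderOf_eq_one]

theorem Pair.z_ne (hP : Pair p n z A C) : z ≠ 1 := fun h => by simpa [h] using hP.inv

theorem Pair.z_central (hP : Pair p n z A C) : z ∈ C ⊓ centralizer (C : Set G) :=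
  mem_inf.2 ⟨hP.z_mem, mem_centralizer_iff.2 fun x hx => hP.cent_z x hx⟩

theorem Pair.a_norm (hP : Pair p n z A C) : A ≤ normalizer (C : Set G) := fun a ha =>
  hP.norm (mem_centralizer_singleton_iff.2 (hP.comm_z a ha))

theorem Pair.conj_mem_centre (hP : Pair p n z A C) {a x : G} (ha : a ∈ A)
    (hx : x ∈ C ⊓ centralizer (C : Set G)) : a * x * a⁻¹ ∈ C ⊓ centralizer (C : Set G) := by
  refine mem_inf.2 ⟨conj_mem (hP.a_norm ha) hx.1, mem_centralizer_iff.2 fun y hy => ?_⟩
  have h1 : a⁻¹ * y * a⁻¹⁻¹ ∈ C := conj_mem (inv_mem (hP.a_norm ha)) hy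
  have h2 := mem_centralizer_iff.1 hx.2 _ h1
  calc y * (a * x * a⁻¹) = a * ((a⁻¹ * y * a⁻¹⁻¹) * x) * a⁻¹ := by group
    _ = a * (x * (a⁻¹ * y * a⁻¹⁻¹)) * a⁻¹ := by rw [h2]
    _ = _ := by group

theorem Pair.elem_z (hP : Pair p n z A C) : Cfsg.IsElementaryAbelian 2 (zpowers z) :=
  elem_zpowers (by rw [pow_two, hP.zz])

theorem Pair.card_z (hP : Pair p n z A C) : Nat.card (zpowers z) = 2 := by
  rw [Nat.card_zpowers, hP.inv]

theorem Pair.ne_bot (hP : Pair p n z A C) (h : Ctx G p n) : A ≠ ⊥ := by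
  intro hh
  have h1 := hP.card_eq
  rw [hh, card_bot] at h1
  have := h.three
  exact (Nat.one_lt_pow (by omega) (Fact.out : p.Prime).one_lt).ne h1

theorem Pair.odd_p (_hP : Pair p n z A C) (h : Ctx G p n) : Odd p :=
  (Fact.out : p.Prime).odd_of_ne_two h.odd

theorem Pair.pow_p (hP : Pair p n z A C) {a : G} (ha : a ∈ A) : a ^ p = 1 := hP.elem.2 a ha

/-- An elementary abelian 2-group centralized by a hyperplane has order at most 4. -/
theorem Pair.rank_hyper (hP : Pair p n z A C) (h : Ctx G p n) {B E : Subgroup G} (hBA : B ≤ A)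
    (hB : B.relIndex A = p) (hE : Cfsg.IsElementaryAbelian 2 E)
    (hEB : E ≤ centralizer (B : Set G)) {e : ℕ} (hc : Nat.card E = 2 ^ e) : e ≤ 2 := by
  have h3 := h.three
  by_contra he
  have := h.rank_le (elem_mono hP.elem hBA) (card_hyper hP.card_eq (by omega) hBA hB) (by omega)
    hE hc (by omega) hEB
  omega

theorem Pair.centre_fixed (hP : Pair p n z A C) (h : Ctx G p n) :
    ∀ x ∈ C ⊓ centralizer (C : Set G), ∀ a ∈ A, a * x = x * a := by
  have : Fact (Nat.Prime 2) := ⟨Nat.prime_two⟩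
  set W := C ⊓ centralizer (C : Set G) with hW
  have hWc : ∀ x ∈ W, ∀ y ∈ W, x * y = y * x := fun x hx y hy =>
    mem_centralizer_iff.1 hy.2 x hx.1
  let V : Subgroup G :=
    { carrier := {x | x ∈ W ∧ x * x = 1}
      one_mem' := ⟨one_mem W, one_mul 1⟩
      mul_mem' := fun {x y} hx hy => ⟨mul_mem hx.1 hy.1, by
        rw [Commute.mul_mul_mul_comm (hWc y hy.1 x hx.1), hx.2, hy.2, one_mul]⟩
      inv_mem' := fun {x} hx => ⟨inv_mem hx.1, by rw [← mul_inv_rev, hx.2, inv_one]⟩ }
  have hVe : Cfsg.IsElementaryAbelian 2 V :=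
    ⟨⟨⟨fun x y => Subtype.ext (hWc _ x.2.1 _ y.2.1)⟩⟩, fun x hx => by rw [pow_two]; exact hx.2⟩
  have hAV : A ≤ normalizer (V : Set G) := by
    refine le_normalizer_iff.2 fun a ha x hx => ⟨hP.conj_mem_centre ha hx.1, ?_⟩
    rw [show a * x * a⁻¹ * (a * x * a⁻¹) = a * (x * x) * a⁻¹ by group, hx.2, mul_one,
      mul_inv_cancel]
  have hV2 : IsPGroup 2 V := isPGroup_of_elem hVe
  have hcop : (Nat.card A).Coprime (Nat.card V) := by
    obtain ⟨k, hk⟩ := hV2.exists_card_eq
    rw [hP.card_eq, hk]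
    exact Nat.Coprime.pow _ _ ((Nat.coprime_primes Fact.out Nat.prime_two).2 h.odd)
  have hVA : V ≤ centralizer (A : Set G) := by
    refine (CfsgLib.Coprime39.le_hyperCent_of_isPGroup hP.elem (hP.ne_bot h) hV2 hcop hAV).trans
      (iSup_le fun B x hx => mem_centralizer_iff.2 fun a ha => ?_)
    set U := V ⊓ centralizer ((B : Subgroup G) : Set G) with hU
    have hUe : Cfsg.IsElementaryAbelian 2 U := elem_mono hVe inf_le_left
    obtain ⟨e, he⟩ := elem_pow_card hUe
    have hle : Nat.card U ≤ 2 ^ 2 :=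
      he ▸ Nat.pow_le_pow_right two_pos (hP.rank_hyper h B.2.1 B.2.2 hUe inf_le_right he)
    have hzU : z ∈ U := mem_inf.2 ⟨⟨hP.z_central, hP.zz⟩,
      mem_centralizer_iff.2 fun b hb => hP.comm_z b (B.2.1 hb)⟩
    by_cases hxz : x ∈ zpowers z
    · rcases (mem_zpowers_involution hP.zz).1 hxz with rfl | rfl
      · simp
      · exact hP.comm_z a ha
    obtain ⟨hE, hEc⟩ := elem_insert hP.elem_z hx.1.2 (fun e he => by
      rcases (mem_zpowers_involution hP.zz).1 he with rfl | rfl
      · simp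
      · exact hWc _ hP.z_central _ hx.1.1) hxz
    have hEU : zpowers z ⊔ zpowers x = U :=
      eq_of_le_of_card_ge (sup_le (zpowers_le.2 hzU) (zpowers_le.2 hx))
        (by rw [hEc, hP.card_z]; linarith)
    have hy : a * x * a⁻¹ ∈ U := by
      refine mem_inf.2 ⟨conj_mem (hAV ha) hx.1, mem_centralizer_iff.2 fun b hb => ?_⟩
      have h1 : Commute b a := comm_of_elem hP.elem (B.2.1 hb) ha
      have h2 : Commute b x := mem_centralizer_iff.1 hx.2 b hb
      exact ((h1.mul_right h2).mul_right h1.inv_right).eq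
    have hxi : ∀ u ∈ U, u = 1 ∨ u = z ∨ u = x ∨ u = x * z := by
      intro u hu
      rw [← hEU] at hu
      obtain ⟨s, hs, t, ht, rfl⟩ := CfsgLib.Techniques.exists_mul_of_mem_sup
        ((zpowers_le.2 (by
          rw [mem_normalizer_iff]
          intro w
          refine ⟨fun hw => ?_, fun hw => ?_⟩
          · rcases (mem_zpowers_involution hx.1.2).1 hw with rfl | rfl
            · simp
            · rw [hWc _ hP.z_central _ hx.1.1, mul_inv_cancel_right]
              exact mem_zpowers _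
          · rcases (mem_zpowers_involution hx.1.2).1 hw with hw' | hw'
            · rw [conj_eq_one_iff] at hw'
              rw [hw']; exact one_mem _
            · rw [mul_inv_eq_iff_eq_mul, ← hWc _ hP.z_central _ hx.1.1, mul_right_inj] at hw'
              rw [hw']; exact mem_zpowers _))) hu
      rcases (mem_zpowers_involution hP.zz).1 hs with rfl | rfl <;>
        rcases (mem_zpowers_involution hx.1.2).1 ht with rfl | rfl
      · simp
      · simp
      · simp
      · exact Or.inr (Or.inr (Or.inr (hWc _ hP.z_central _ hx.1.1)))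
    rcases hxi _ hy with h1 | h1 | h1 | h1
    · rw [conj_eq_one_iff] at h1; simp [h1]
    · rw [mul_inv_eq_iff_eq_mul, ← hP.comm_z a ha, mul_right_inj] at h1
      exact absurd (h1 ▸ mem_zpowers z) hxz
    · exact mul_inv_eq_iff_eq_mul.1 h1
    · exact absurd (shift_eq_one (hP.odd_p h) (hP.pow_p ha) (hP.comm_z a ha) hP.zz h1) hP.z_ne
  intro x
  induction hk : orderOf x using Nat.strong_induction_on generalizing x with
  | _ k ih =>
    intro hx a ha
    by_cases hx1 : x = 1
    · simp [hx1]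
    obtain ⟨m, hm⟩ := (IsPGroup.iff_orderOf.1 hP.isTwo) ⟨x, hx.1⟩
    rw [orderOf_mk] at hm
    have hlt : orderOf (x * x) < k := by
      rcases m with _ | m
      · exact absurd (orderOf_eq_one_iff.1 (by simpa using hm)) hx1
      have hd : (x * x) ^ (2 ^ m) = 1 := by
        rw [← pow_two, ← pow_mul, ← pow_succ', ← hm, pow_orderOf_eq_one]
      refine lt_of_le_of_lt (orderOf_le_of_pow_eq_one (by positivity) hd) ?_
      rw [← hk, hm]
      exact Nat.pow_lt_pow_right (by norm_num) (by omega)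
    have hsq := ih _ hlt _ rfl (mul_mem hx hx) a ha
    set d := x⁻¹ * (a * x * a⁻¹) with hd
    have hdW : d ∈ W := mul_mem (inv_mem hx) (hP.conj_mem_centre ha hx)
    have hd2 : d * d = 1 := by
      rw [hd, Commute.mul_mul_mul_comm (hWc _ (hP.conj_mem_centre ha hx) _ (inv_mem hx)),
        show a * x * a⁻¹ * (a * x * a⁻¹) = a * (x * x) * a⁻¹ by group, hsq, mul_inv_cancel_right,
        mul_assoc, inv_mul_cancel_left, inv_mul_cancel]
    have hfix : a * d = d * a := mem_centralizer_iff.1 (hVA ⟨hdW, hd2⟩) a ha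
    have h1 := shift_eq_one (hP.odd_p h) (hP.pow_p ha) hfix hd2 (x := x)
      (by rw [hd, mul_inv_cancel_left])
    rw [hd, inv_mul_eq_one] at h1
    exact mul_inv_eq_iff_eq_mul.1 h1.symm

/-- `z` is the only involution of `C` centralized by `A`. -/
theorem Pair.unique_inv (hP : Pair p n z A C) (h : Ctx G p n) {x : G} (hx : x ∈ C)
    (hx2 : x * x = 1) (hc : ∀ a ∈ A, a * x = x * a) : x = 1 ∨ x = z := by
  by_contra hne
  obtain ⟨hE, hEc⟩ := elem_insert hP.elem_z hx2 (fun e he => by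
    rcases (mem_zpowers_involution hP.zz).1 he with rfl | rfl
    · simp
    · exact (hP.cent_z x hx).symm) (fun h1 => hne ((mem_zpowers_involution hP.zz).1 h1))
  rw [hP.card_z] at hEc
  have := h.rank_le (e := 2) hP.elem hP.card_eq (by have := h.three; omega) hE (by rw [hEc]; rfl)
    two_pos (sup_le (zpowers_le.2 (mem_centralizer_iff.2 hP.comm_z))
      (zpowers_le.2 (mem_centralizer_iff.2 hc)))
  omega

/-- Commutators in `C` lie in `{1, z}`. -/
theorem Pair.swap (hP : Pair p n z A C) (h : Ctx G p n) {x y : G} (hx : x ∈ C) (hy : y ∈ C) :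
    x * y = y * x ∨ x * y = z * (y * x) := by
  set c := ⁅x, y⁆ with hc
  have hcW := hP.comm_mem x hx y hy
  have hxy : x * y = c * (y * x) := by rw [hc, commutatorElement_def]; group
  have hcy : ∀ w ∈ C, w * c = c * w := fun w hw => mem_centralizer_iff.1 hcW.2 w hw
  have h2 : x * x * y = y * (x * x) :=
    (mem_centralizer_iff.1 (hP.sq_mem x hx).2 y hy).symm
  have hcc : c * c = 1 := by
    have h3 : c * c * (y * (x * x)) = y * (x * x) := by
      calc c * c * (y * (x * x)) = c * (c * (y * x)) * x := by group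
        _ = c * (x * y) * x := by rw [hxy]
        _ = x * c * (y * x) := by rw [← mul_assoc c x y, ← hcy x hx]; group
        _ = x * (x * y) := by rw [hxy]; group
        _ = y * (x * x) := by rw [← h2, mul_assoc]
    exact mul_eq_right.1 h3
  rcases hP.unique_inv h hcW.1 hcc (hP.centre_fixed h c hcW) with h1 | h1
  · left; rw [hxy, hc, h1, one_mul]
  · right; rw [hxy, hc, h1]

theorem Pair.z_comm (hP : Pair p n z A C) {x : G} (hx : x ∈ C) : Commute z x :=
  (hP.cent_z x hx).symm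

theorem cB_le (C B : Subgroup G) : cB C B ≤ C := inf_le_left

theorem Pair.norm_cB (hP : Pair p n z A C) {B : Subgroup G} (hBA : B ≤ A) :
    A ≤ normalizer (cB C B : Set G) := by
  refine le_normalizer_iff.2 fun a ha x hx => mem_inf.2 ⟨conj_mem (hP.a_norm ha) hx.1, ?_⟩
  refine mem_centralizer_iff.2 fun b hb => ?_
  have h1 : Commute b a := comm_of_elem hP.elem (hBA hb) ha
  have h2 : Commute b x := mem_centralizer_iff.1 hx.2 b hb
  exact ((h1.mul_right h2).mul_right h1.inv_right).eq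

theorem Pair.tB_le (hP : Pair p n z A C) {B : Subgroup G} (hBA : B ≤ A) :
    tB C A B ≤ cB C B :=
  CfsgLib.Coprime.commutator_le_of_normalizes (hP.norm_cB hBA)

theorem Pair.norm_tB (_hP : Pair p n z A C) {B : Subgroup G} :
    A ≤ normalizer (tB C A B : Set G) :=
  CfsgLib.Coprime.le_normalizer_commutator_right _ _

theorem Pair.coprime_of_le (hP : Pair p n z A C) (h : Ctx G p n) {U : Subgroup G} (hU : U ≤ C) :
    (Nat.card A).Coprime (Nat.card U) := by
  have : Fact (Nat.Prime 2) := ⟨Nat.prime_two⟩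
  obtain ⟨k, hk⟩ := (hP.isTwo.to_le hU).exists_card_eq
  rw [hP.card_eq, hk]
  exact Nat.Coprime.pow _ _ ((Nat.coprime_primes Fact.out Nat.prime_two).2 h.odd)

theorem Pair.solvable (hP : Pair p n z A C) : Group.IsSolvable A := by
  have := (isPGroup_of_elem hP.elem).isNilpotent
  infer_instance

theorem sup_hyper {p : ℕ} [Fact p.Prime] {A B K : Subgroup G} (hBA : B ≤ A)
    (hB : B.relIndex A = p) (hK : K ≤ A) (hne : ¬ K ≤ B) : B ⊔ K = A := by
  have h := relIndex_mul_relIndex B (B ⊔ K) A le_sup_left (sup_le hBA hK)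
  rw [hB] at h
  rcases (Nat.dvd_prime (Fact.out : p.Prime)).1 (Dvd.intro _ h) with h1 | h1
  · exact absurd (le_sup_right.trans (relIndex_eq_one.1 h1)) hne
  · rw [h1] at h
    exact le_antisymm (sup_le hBA hK)
      (relIndex_eq_one.1 (mul_eq_left₀ (Fact.out : p.Prime).ne_zero |>.1 h))

/-- An element of `C` commuting with enough of `A` centralizes `tB C A B`. -/
theorem Pair.comm_tB (hP : Pair p n z A C) (h : Ctx G p n) {B : Subgroup G} (hBA : B ≤ A) {x : G}
    (hx : x ∈ C) (hdec : ∀ c ∈ A, ∃ b ∈ B, (b⁻¹ * c) * x = x * (b⁻¹ * c)) :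
    ∀ t ∈ tB C A B, t * x = x * t := by
  suffices tB C A B ≤ centralizer ({x} : Set G) from fun t ht =>
    mem_centralizer_singleton_iff.1 (this ht)
  rw [tB, commutator_le]
  intro r hr c hc
  rw [mem_centralizer_singleton_iff]
  obtain ⟨b, hb, hbx⟩ := hdec c hc
  set d := b⁻¹ * c with hd
  have hdA : d ∈ A := mul_mem (inv_mem (hBA hb)) hc
  set w := d * r⁻¹ * d⁻¹ with hw
  have hwR : w ∈ cB C B := conj_mem (hP.norm_cB hBA hdA) (inv_mem hr)
  have hcw : ⁅r, c⁆ = r * w := by
    have hbw : Commute b w := mem_centralizer_iff.1 hwR.2 b hb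
    rw [commutatorElement_def, show c = b * d by rw [hd, mul_inv_cancel_left],
      show r * (b * d) * r⁻¹ * (b * d)⁻¹ = r * (b * w * b⁻¹) by rw [hw]; group,
      hbw.eq, mul_inv_cancel_right]
  rw [hcw]
  have hdx : d * x * d⁻¹ = x := by rw [hbx, mul_inv_cancel_right]
  have hzc : Commute d z := hP.comm_z d hdA
  rcases hP.swap h hr.1 hx with h1 | h1
  · have h2 : w * x = x * w := by
      have h3 : Commute r⁻¹ x := Commute.inv_left h1
      calc w * x = w * (d * x * d⁻¹) := by rw [hdx]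
        _ = d * (r⁻¹ * x) * d⁻¹ := by rw [hw]; group
        _ = d * (x * r⁻¹) * d⁻¹ := by rw [h3.eq]
        _ = (d * x * d⁻¹) * w := by rw [hw]; group
        _ = x * w := by rw [hdx]
    exact (Commute.mul_left h1 h2).eq
  · have h1' : r⁻¹ * x = z * (x * r⁻¹) := by
      have : x * r = z * (r * x) := by rw [h1, ← mul_assoc, hP.zz, one_mul]
      calc r⁻¹ * x = r⁻¹ * (x * r) * r⁻¹ := by group
        _ = r⁻¹ * (z * r) * (x * r⁻¹) := by rw [this]; group
        _ = z * (x * r⁻¹) := by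
          rw [(hP.z_comm hr.1).eq, inv_mul_cancel_left]
    have h2 : w * x = z * (x * w) := by
      calc w * x = w * (d * x * d⁻¹) := by rw [hdx]
        _ = d * (r⁻¹ * x) * d⁻¹ := by rw [hw]; group
        _ = (d * z) * (x * r⁻¹) * d⁻¹ := by rw [h1']; group
        _ = z * ((d * x * d⁻¹) * w) := by rw [hzc.eq, hw]; group
        _ = z * (x * w) := by rw [hdx]
    calc r * w * x = r * (z * (x * w)) := by rw [mul_assoc, h2]
      _ = z * (r * x) * w := by rw [← mul_assoc r z, ← (hP.z_comm hr.1).eq]; group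
      _ = z * (z * (x * r)) * w := by rw [h1]
      _ = x * (r * w) := by rw [← mul_assoc z z, hP.zz, one_mul, mul_assoc]

theorem Pair.comm_fixed_tB (hP : Pair p n z A C) (h : Ctx G p n) {B : Subgroup G} (hBA : B ≤ A)
    {x : G} (hx : x ∈ C) (hxA : ∀ a ∈ A, a * x = x * a) :
    ∀ t ∈ tB C A B, t * x = x * t :=
  hP.comm_tB h hBA hx fun c hc => ⟨1, one_mem B, by simpa using hxA c hc⟩

/-- Moved parts belonging to distinct hyperplanes commute. -/
theorem Pair.comm_cross (hP : Pair p n z A C) (h : Ctx G p n) {B B' : Subgroup G}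
    (hB : mem p C A B) (hB' : mem p C A B') (hne : B ≠ B') {x : G} (hx : x ∈ cB C B') :
    ∀ t ∈ tB C A B, t * x = x * t := by
  have hnle : ¬ B' ≤ B := fun hle => hne <| by
    refine (eq_of_le_of_card_ge hle ?_).symm
    have := h.three
    rw [card_hyper hP.card_eq (by omega) hB.1 hB.2.1, card_hyper hP.card_eq (by omega) hB'.1 hB'.2.1]
  refine hP.comm_tB h hB.1 hx.1 fun c hc => ?_
  rw [← sup_hyper hB.1 hB.2.1 hB'.1 hnle] at hc
  obtain ⟨b, hb, b', hb', rfl⟩ := CfsgLib.Techniques.exists_mul_of_mem_sup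
    (fun b hb => centralizer_le_normalizer _ (mem_centralizer_iff.2 fun b' hb' =>
      comm_of_elem hP.elem (hB'.1 hb') (hB.1 hb))) hc
  exact ⟨b, hb, by rw [inv_mul_cancel_left]; exact mem_centralizer_iff.1 hx.2 b' hb'⟩

theorem Pair.sq_tB (hP : Pair p n z A C) (h : Ctx G p n) {B : Subgroup G} :
    ∀ x ∈ tB C A B, x * x = 1 ∨ x * x = z := by
  let S : Subgroup G :=
    { carrier := {x | x ∈ C ∧ x * x ∈ zpowers z}
      one_mem' := ⟨one_mem C, by simp⟩
      mul_mem' := fun {x y} hx hy => ⟨mul_mem hx.1 hy.1, by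
        have hyx : y * x = x * y ∨ y * x = z * (x * y) := hP.swap h hy.1 hx.1
        have hb : x * y * (x * y) = x * (y * x) * y := by group
        rw [hb]
        rcases hyx with h1 | h1
        · rw [h1, show x * (x * y) * y = (x * x) * (y * y) by group]
          exact mul_mem hx.2 hy.2
        · rw [h1, show x * (z * (x * y)) * y = (x * z) * (x * (y * y)) by group,
            ← (hP.z_comm hx.1).eq, show z * x * (x * (y * y)) = z * ((x * x) * (y * y)) by group]
          exact mul_mem (mem_zpowers z) (mul_mem hx.2 hy.2)⟩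
      inv_mem' := fun {x} hx => ⟨inv_mem hx.1, by rw [← mul_inv_rev]; exact inv_mem hx.2⟩ }
  intro x hx
  have hle : tB C A B ≤ S := by
    rw [tB, commutator_le]
    intro r hr c hc
    have hw : c * r⁻¹ * c⁻¹ ∈ C := conj_mem (hP.a_norm hc) (inv_mem hr.1)
    set w := c * r⁻¹ * c⁻¹ with hw'
    have hrw : ⁅r, c⁆ = r * w := by rw [commutatorElement_def, hw']; group
    have hfix := hP.centre_fixed h _ (inv_mem (hP.sq_mem r hr.1)) c hc
    have hww : w * w = (r * r)⁻¹ := by
      rw [hw', show c * r⁻¹ * c⁻¹ * (c * r⁻¹ * c⁻¹) = c * (r * r)⁻¹ * c⁻¹ by group, hfix,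
        mul_inv_cancel_right]
    refine ⟨hrw ▸ mul_mem hr.1 hw, ?_⟩
    rw [hrw, show r * w * (r * w) = r * (w * r) * w by group]
    rcases hP.swap h hw hr.1 with h1 | h1
    · rw [h1, show r * (r * w) * w = (r * r) * (w * w) by group, hww, mul_inv_cancel]
      exact one_mem _
    · rw [h1, show r * (z * (r * w)) * w = (r * z) * (r * (w * w)) by group,
        ← (hP.z_comm hr.1).eq, show z * r * (r * (w * w)) = z * ((r * r) * (w * w)) by group, hww,
        mul_inv_cancel, mul_one]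
      exact mem_zpowers z
  exact (mem_zpowers_involution hP.zz).1 (hle hx).2

/-- `C` is generated by `C_C(A)` and the moved parts. -/
theorem Pair.le_gen (hP : Pair p n z A C) (h : Ctx G p n) :
    C ≤ (C ⊓ centralizer (A : Set G)) ⊔ ⨆ B : {B // mem p C A B}, tB C A B := by
  have : Fact (Nat.Prime 2) := ⟨Nat.prime_two⟩
  refine (CfsgLib.Coprime39.le_hyperCent_of_isPGroup hP.elem (hP.ne_bot h) hP.isTwo
    (hP.coprime_of_le h le_rfl) hP.a_norm).trans (iSup_le fun B => ?_)
  rw [← CfsgLib.Coprime.commutator_sup_centralizer A (C ⊓ centralizer ((B : Subgroup G) : Set G))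
    (hP.norm_cB B.2.1) (hP.coprime_of_le h inf_le_left) (Or.inl hP.solvable)]
  refine sup_le ?_ (le_sup_of_le_left (inf_le_inf_right _ inf_le_left))
  by_cases hne : tB C A B = ⊥
  · exact hne.le.trans bot_le
  · exact le_sup_of_le_right (le_iSup (fun B : {B // mem p C A B} => tB C A B)
      ⟨B, B.2.1, B.2.2, hne⟩)

theorem Pair.inter_trivial (hP : Pair p n z A C) (h : Ctx G p n) {a : G} (ha : a ∈ A)
    (hall : ∀ B, mem p C A B → a ∈ B) : a = 1 := by
  refine hP.faithful a ha fun x hx => ?_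
  refine (mem_centralizer_singleton_iff.1 ((hP.le_gen h).trans (sup_le ?_ ?_) hx :
    x ∈ centralizer ({a} : Set G))).symm
  · exact fun y hy => mem_centralizer_singleton_iff.2 (mem_centralizer_iff.1 hy.2 a ha).symm
  · refine iSup_le fun B y hy => mem_centralizer_singleton_iff.2 ?_
    exact (mem_centralizer_iff.1 (hP.tB_le B.2.1 hy).2 a (hall B B.2)).symm

theorem Pair.exists_mem_notMem (hP : Pair p n z A C) (h : Ctx G p n) {K : Subgroup G} (hK : K ≤ A)
    (hK1 : K ≠ ⊥) : ∃ B, mem p C A B ∧ ¬ K ≤ B := by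
  by_contra hc
  push Not at hc
  exact hK1 ((eq_bot_iff_forall _).2 fun a ha =>
    hP.inter_trivial h (hK ha) fun B hB => hc B hB ha)

end CfsgLib.Classif.KM
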