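import Cfsg.Agent.Lib.Classif.KlingerMason.Pair

/-!
# Klinger-Mason: `p = 3` and every moved part is a quaternion group of order 8
-/

set_option autoImplicit false
set_option linter.unusedSectionVars false

namespace CfsgLib.Classif.KM

open Subgroup CfsgLib.LocalEvenCharP
open scoped commutatorElement

variable {G : Type*} [Group G] [Finite G]
variable {p n : ℕ} [Fact p.Prime] {z : G} {A C : Subgroup G}

/-- Equality up to `z`. -/
def Eqz (z u v : G) : Prop := u = v ∨ u = z * v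

theorem Eqz.refl (z u : G) : Eqz z u u := Or.inl rfl

theorem Eqz.trans {u v w : G} (hzz : z * z = 1) (h1 : Eqz z u v) (h2 : Eqz z v w) :
    Eqz z u w := by
  rcases h1 with rfl | rfl
  · exact h2
  · rcases h2 with rfl | rfl
    · exact Or.inr rfl
    · exact Or.inl (by rw [← mul_assoc, hzz, one_mul])

theorem Eqz.symm {u v : G} (hzz : z * z = 1) (h1 : Eqz z u v) : Eqz z v u := by
  rcases h1 with rfl | rfl
  · exact Or.inl rfl
  · exact Or.inr (by rw [← mul_assoc, hzz, one_mul])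

theorem Eqz.mul_right {u v : G} (h1 : Eqz z u v) (r : G) : Eqz z (u * r) (v * r) := by
  rcases h1 with rfl | rfl
  · exact Or.inl rfl
  · exact Or.inr (mul_assoc _ _ _)

theorem Eqz.mul_left {u v l : G} (hl : Commute z l) (h1 : Eqz z u v) :
    Eqz z (l * u) (l * v) := by
  rcases h1 with rfl | rfl
  · exact Or.inl rfl
  · exact Or.inr (by rw [← mul_assoc, ← hl.eq, mul_assoc])

theorem Eqz.mem {u v : G} {D : Subgroup G} (hzD : z ∈ D) (h1 : Eqz z u v) (hv : v ∈ D) :
    u ∈ D := by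
  rcases h1 with rfl | rfl
  · exact hv
  · exact mul_mem hzD hv

/-- The norm of `x` with respect to an element of order 3. -/
def nrm (a x : G) : G := x * (a * x * a⁻¹) * (a * (a * x * a⁻¹) * a⁻¹)

theorem Pair.swapz (hP : Pair p n z A C) (h : Ctx G p n) {x y : G} (hx : x ∈ C) (hy : y ∈ C) :
    Eqz z (x * y) (y * x) := hP.swap h hx hy

theorem Pair.nrm_mul (hP : Pair p n z A C) (h : Ctx G p n) {a x y : G} (ha : a ∈ A) (hx : x ∈ C)
    (hy : y ∈ C) : Eqz z (nrm a (x * y)) (nrm a x * nrm a y) := by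
  set x1 := a * x * a⁻¹ with hx1
  set y1 := a * y * a⁻¹ with hy1
  set x2 := a * x1 * a⁻¹ with hx2
  set y2 := a * y1 * a⁻¹ with hy2
  have m1 : x1 ∈ C := conj_mem (hP.a_norm ha) hx
  have n1 : y1 ∈ C := conj_mem (hP.a_norm ha) hy
  have m2 : x2 ∈ C := conj_mem (hP.a_norm ha) m1
  have e0 : nrm a (x * y) = x * (y * x1) * (y1 * x2 * y2) := by
    simp only [nrm, hx1, hy1, hx2, hy2]; group
  have e1 : nrm a x * nrm a y = x * x1 * x2 * (y * y1) * y2 := by
    simp only [nrm, hx1, hy1, hx2, hy2]; group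
  have s1 : Eqz z (x * (y * x1) * (y1 * x2 * y2)) (x * x1 * (y * y1 * x2) * y2) := by
    have := ((hP.swapz h hy m1).mul_left (hP.z_comm hx)).mul_right (y1 * x2 * y2)
    simpa [mul_assoc] using this
  have s2 : Eqz z (x * x1 * (y * y1 * x2) * y2) (x * x1 * x2 * (y * y1) * y2) := by
    have := ((hP.swapz h (mul_mem hy n1) m2).mul_left
      (hP.z_comm (mul_mem hx m1))).mul_right y2
    simpa [mul_assoc] using this
  rw [e0, e1]
  exact s1.trans hP.zz s2

theorem Pair.nrm_rotate (hP : Pair p n z A C) (h : Ctx G p n) {a x : G} (ha : a ∈ A)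
    (ha3 : a ^ 3 = 1) (hx : x ∈ C) : Eqz z (nrm a (a * x * a⁻¹)) (nrm a x) := by
  set x1 := a * x * a⁻¹ with hx1
  set x2 := a * x1 * a⁻¹ with hx2
  have m1 : x1 ∈ C := conj_mem (hP.a_norm ha) hx
  have m2 : x2 ∈ C := conj_mem (hP.a_norm ha) m1
  have h3 : a * x2 * a⁻¹ = x := by
    have : a * x2 * a⁻¹ = a ^ 3 * x * (a ^ 3)⁻¹ := by simp only [hx2, hx1, pow_succ, pow_zero, one_mul]; group
    rw [this, ha3, one_mul, inv_one, mul_one]
  have e : nrm a x1 = x1 * x2 * x := by rw [nrm, ← hx2, h3]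
  rw [e, show nrm a x = x * (x1 * x2) by rw [nrm, ← hx1, ← hx2, mul_assoc]]
  exact hP.swapz h (mul_mem m1 m2) hx

/-- The elements of `C` whose norm lies in `D`. -/
def Pair.nrmGroup (hP : Pair p n z A C) (h : Ctx G p n) {a : G} (ha : a ∈ A) (D : Subgroup G)
    (hzD : z ∈ D) : Subgroup G where
  carrier := {x | x ∈ C ∧ nrm a x ∈ D}
  one_mem' := ⟨one_mem C, by simp [nrm]⟩
  mul_mem' := fun hx hy =>
    ⟨mul_mem hx.1 hy.1, (hP.nrm_mul h ha hx.1 hy.1).mem hzD (mul_mem hx.2 hy.2)⟩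
  inv_mem' := fun {x} hx => by
    refine ⟨inv_mem hx.1, ?_⟩
    have h1 := (hP.nrm_mul h ha (inv_mem hx.1) hx.1).symm hP.zz
    rw [inv_mul_cancel, show nrm a 1 = 1 by simp [nrm]] at h1
    have h2 := mul_mem (h1.mem hzD (one_mem D)) (inv_mem hx.2)
    rwa [mul_inv_cancel_right] at h2

theorem Pair.nrm_tB (hP : Pair p n z A C) (h : Ctx G p n) (hp3 : p = 3) {B : Subgroup G}
    (hB : mem p C A B) {a : G} (ha : a ∈ A) (haB : a ∉ B) :
    ∀ x ∈ tB C A B, nrm a x ∈ zpowers z := by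
  have ha3 : a ^ 3 = 1 := hp3 ▸ hP.pow_p ha
  suffices tB C A B ≤ hP.nrmGroup h ha (zpowers z) (mem_zpowers z) from fun x hx => (this hx).2
  rw [tB, commutator_le]
  intro r hr c hc
  rw [← sup_hyper hB.1 hB.2.1 (zpowers_le.2 ha) (fun hle => haB (hle (mem_zpowers a)))] at hc
  obtain ⟨b, hb, d, hd, rfl⟩ := CfsgLib.Techniques.exists_mul_of_mem_sup
    (fun b hb => centralizer_le_normalizer _ (mem_centralizer_iff.2 fun b' hb' =>
      comm_of_elem hP.elem (zpowers_le.2 ha hb') (hB.1 hb))) hc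
  obtain ⟨i, hi⟩ : ∃ i : ℕ, a ^ i = d := Submonoid.mem_powers_iff _ _ |>.1 (mem_powers_iff_mem_zpowers.2 hd)
  have hdA : d ∈ A := zpowers_le.2 ha hd
  have hr1 : r⁻¹ ∈ cB C B := inv_mem hr
  set w := d * r⁻¹ * d⁻¹ with hw
  have hwR : w ∈ cB C B := conj_mem (hP.norm_cB hB.1 hdA) hr1
  have hcw : ⁅r, b * d⁆ = r * w := by
    have hbw : Commute b w := mem_centralizer_iff.1 hwR.2 b hb
    rw [commutatorElement_def,
      show r * (b * d) * r⁻¹ * (b * d)⁻¹ = r * (b * w * b⁻¹) by rw [hw]; group,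
      hbw.eq, mul_inv_cancel_right]
  have hrot : ∀ i : ℕ, Eqz z (nrm a (a ^ i * r⁻¹ * (a ^ i)⁻¹)) (nrm a r⁻¹) := by
    intro i
    induction i with
    | zero => simpa using Eqz.refl z _
    | succ i ih =>
      rw [show a ^ (i + 1) * r⁻¹ * (a ^ (i + 1))⁻¹ = a * (a ^ i * r⁻¹ * (a ^ i)⁻¹) * a⁻¹ by
        rw [pow_succ']; group]
      exact (hP.nrm_rotate h ha ha3 (conj_mem (hP.a_norm (pow_mem ha i)) hr1.1)).trans hP.zz ih
  have hnC : ∀ x ∈ C, nrm a x ∈ C := fun x hx => mul_mem (mul_mem hx (conj_mem (hP.a_norm ha) hx))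
    (conj_mem (hP.a_norm ha) (conj_mem (hP.a_norm ha) hx))
  refine ⟨hcw ▸ mul_mem hr.1 hwR.1, ?_⟩
  rw [hcw]
  have h1 := hP.nrm_mul h ha hr.1 hwR.1
  have h2 : Eqz z (nrm a r * nrm a w) (nrm a r * nrm a r⁻¹) := by
    refine Eqz.mul_left (hP.z_comm (hnC r hr.1)) ?_
    rw [hw, ← hi]
    exact hrot i
  have h3 := (hP.nrm_mul h ha hr.1 (inv_mem hr.1)).symm hP.zz
  rw [mul_inv_cancel, show nrm a 1 = 1 by simp [nrm]] at h3
  exact ((h1.trans hP.zz h2).trans hP.zz h3).mem (mem_zpowers z) (one_mem _)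

theorem mem_elem_insert {E : Subgroup G} {x u : G} (hx : x * x = 1)
    (hc : ∀ e ∈ E, e * x = x * e) (hu : u ∈ E ⊔ zpowers x) : u ∈ E ∨ u * x ∈ E := by
  have hcz : E ≤ centralizer (zpowers x : Set G) := by
    rw [zpowers_eq_closure, centralizer_closure]
    exact fun e he => mem_centralizer_singleton_iff.2 (hc e he)
  obtain ⟨e, he, w, hw, rfl⟩ := CfsgLib.Techniques.exists_mul_of_mem_sup
    (hcz.trans (centralizer_le_normalizer _)) hu
  rcases (mem_zpowers_involution hx).1 hw with rfl | rfl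
  · exact Or.inl (by rwa [mul_one])
  · exact Or.inr (by rwa [mul_assoc, hx, mul_one])

theorem Pair.noncomm_shift (hP : Pair p n z A C) (h : Ctx G p n) {a x : G} (ha : a ∈ A)
    (hax : a * x ≠ x * a) : ¬ Eqz z (a * x * a⁻¹) x ∨ ¬ Commute z x := by
  refine or_iff_not_imp_right.2 fun hzx he => ?_
  rw [not_not] at hzx
  rcases he with h1 | h1
  · exact hax (mul_inv_eq_iff_eq_mul.1 h1)
  · exact hP.z_ne (shift_eq_one (hP.odd_p h) (hP.pow_p ha) (hP.comm_z a ha) hP.zz
      (by rw [h1, hzx.eq]))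

theorem Pair.not_eqz (hP : Pair p n z A C) (h : Ctx G p n) {a x : G} (ha : a ∈ A) (hx : x ∈ C)
    (hax : a * x ≠ x * a) : ¬ Eqz z (a * x * a⁻¹) x :=
  (hP.noncomm_shift h ha hax).resolve_right (not_not.2 (hP.z_comm hx))

theorem Pair.noncomm_of_inv (hP : Pair p n z A C) (h : Ctx G p n) {B : Subgroup G}
    (hB : mem p C A B) {t : G} (ht : t ∈ cB C B) (ht2 : t * t = 1) (htz : t ∉ zpowers z)
    {a : G} (ha : a ∈ A) (hat : a * t ≠ t * a) :
    t * (a * t * a⁻¹) = z * (a * t * a⁻¹ * t) := by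
  set t1 := a * t * a⁻¹ with ht1
  have ht1C : t1 ∈ cB C B := conj_mem (hP.norm_cB hB.1 ha) ht
  refine (hP.swapz h ht.1 ht1C.1).resolve_left fun hcomm => ?_
  have ht12 : t1 * t1 = 1 := by
    rw [ht1, show a * t * a⁻¹ * (a * t * a⁻¹) = a * (t * t) * a⁻¹ by group, ht2, mul_one,
      mul_inv_cancel]
  have hcz : ∀ e ∈ zpowers z, ∀ u ∈ C, e * u = u * e := by
    intro e he u hu
    rcases (mem_zpowers_involution hP.zz).1 he with rfl | rfl
    · simp
    · exact (hP.z_comm hu).eq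
  have hct : ∀ e ∈ zpowers z, e * t = t * e := fun e he => hcz e he t ht.1
  obtain ⟨hE, hEc⟩ := elem_insert hP.elem_z ht2 hct htz
  have hct1 : ∀ e ∈ zpowers z ⊔ zpowers t, e * t1 = t1 * e := by
    have hle : zpowers z ⊔ zpowers t ≤ centralizer ({t1} : Set G) :=
      sup_le (zpowers_le.2 (mem_centralizer_singleton_iff.2 (hP.z_comm ht1C.1).eq))
        (zpowers_le.2 (mem_centralizer_singleton_iff.2 hcomm))
    exact fun e he => mem_centralizer_singleton_iff.1 (hle he)
  have hnot : t1 ∉ zpowers z ⊔ zpowers t := by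
    intro hm
    have hn := hP.not_eqz h ha ht.1 hat
    rcases mem_elem_insert ht2 hct hm with h1 | h1
    · rcases (mem_zpowers_involution hP.zz).1 h1 with h2 | h2
      · exact htz ((conj_eq_one_iff.1 h2) ▸ one_mem _)
      · rw [ht1, mul_inv_eq_iff_eq_mul, ← hP.comm_z a ha, mul_right_inj] at h2
        exact htz (h2 ▸ mem_zpowers z)
    · rcases (mem_zpowers_involution hP.zz).1 h1 with h2 | h2
      · exact hn (Or.inl (by
          show t1 = t
          rw [mul_eq_one_iff_eq_inv] at h2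
          rw [h2, inv_eq_of_mul_eq_one_right ht2]))
      · exact hn (Or.inr (by
          show t1 = z * t
          rw [← h2, mul_assoc, ht2, mul_one]))
  obtain ⟨hE', hEc'⟩ := elem_insert hE ht12 hct1 hnot
  rw [hEc, hP.card_z] at hEc'
  have hzB : z ∈ centralizer (B : Set G) :=
    mem_centralizer_iff.2 fun b hb => hP.comm_z b (hB.1 hb)
  have := hP.rank_hyper h hB.1 hB.2.1 hE' (e := 3)
    (sup_le (sup_le (zpowers_le.2 hzB) (zpowers_le.2 ht.2)) (zpowers_le.2 ht1C.2))
    (by rw [hEc']; rfl)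
  omega

theorem Pair.exists_noncomm (hP : Pair p n z A C) (h : Ctx G p n) {x : G} (hx : x ∈ C)
    (hx2 : x * x = 1) (hxz : x ∉ zpowers z) : ∃ a ∈ A, a * x ≠ x * a := by
  by_contra hc
  push Not at hc
  exact hxz ((mem_zpowers_involution hP.zz).2 (hP.unique_inv h hx hx2 hc))

theorem Pair.exists_y (hP : Pair p n z A C) (h : Ctx G p n) {B : Subgroup G}
    (hB : mem p C A B) {t : G} (ht : t ∈ tB C A B) (ht2 : t * t = 1) (htz : t ∉ zpowers z) :
    ∃ a ∈ A, a * t ≠ t * a ∧ ∃ y ∈ tB C A B, y * y = z ∧ y * t = t * y ∧ y = nrm a t := by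
  obtain ⟨a, ha, hat⟩ := hP.exists_noncomm h (hP.tB_le hB.1 ht).1 ht2 htz
  refine ⟨a, ha, hat, nrm a t, ?_, ?_, ?_, rfl⟩
  · exact mul_mem (mul_mem ht (conj_mem (hP.norm_tB ha) ht))
      (conj_mem (hP.norm_tB ha) (conj_mem (hP.norm_tB ha) ht))
  all_goals
    set t1 := a * t * a⁻¹ with ht1
    set t2 := a * t1 * a⁻¹ with ht2'
    have hR := hP.tB_le hB.1 ht
    have r1 : t * t1 = z * (t1 * t) := hP.noncomm_of_inv h hB hR ht2 htz ha hat
    have hzt := hP.z_comm hR.1
    have hzt1 : Commute z t1 := hP.z_comm (conj_mem (hP.a_norm ha) hR.1)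
    have r2 : t1 * t2 = z * (t2 * t1) := by
      have := congrArg (fun u => a * u * a⁻¹) r1
      simp only [ht2', ht1] at this ⊢
      calc a * t * a⁻¹ * (a * (a * t * a⁻¹) * a⁻¹) = a * (t * (a * t * a⁻¹)) * a⁻¹ := by group
        _ = a * (z * (a * t * a⁻¹ * t)) * a⁻¹ := this
        _ = (a * z) * (a * t * a⁻¹ * t) * a⁻¹ := by group
        _ = (z * a) * (a * t * a⁻¹ * t) * a⁻¹ := by rw [hP.comm_z a ha]
        _ = _ := by group
    have haa : a * a * t ≠ t * (a * a) := by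
      intro hh
      obtain ⟨m, hm⟩ := hP.odd_p h
      have h1 : Commute ((a * a) ^ (m + 1)) t := Commute.pow_left hh (m + 1)
      rw [← pow_two, ← pow_mul, show 2 * (m + 1) = p + 1 by omega, pow_succ, hP.pow_p ha,
        one_mul] at h1
      exact hat h1.eq
    have r3 : t * t2 = z * (t2 * t) := by
      have := hP.noncomm_of_inv h hB hR ht2 htz (mul_mem ha ha) haa
      rwa [show a * a * t * (a * a)⁻¹ = t2 by rw [ht2', ht1]; group] at this
    have hs1 : t1 * t1 = 1 := by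
      rw [ht1, show a * t * a⁻¹ * (a * t * a⁻¹) = a * (t * t) * a⁻¹ by group, ht2, mul_one,
        mul_inv_cancel]
    have hs2 : t2 * t2 = 1 := by
      rw [ht2', show a * t1 * a⁻¹ * (a * t1 * a⁻¹) = a * (t1 * t1) * a⁻¹ by group, hs1, mul_one,
        mul_inv_cancel]
    have inv_rel : ∀ {u v : G}, u * v = z * (v * u) → v * u = z * (u * v) := fun h' => by
      rw [h', ← mul_assoc, hP.zz, one_mul]
    have r3' : t2 * t = z * (t * t2) := inv_rel r3
    have r2' : t2 * t1 = z * (t1 * t2) := inv_rel r2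
    have r1' : t1 * t = z * (t * t1) := inv_rel r1
  · show t * t1 * t2 * (t * t1 * t2) = z
    clear_value t1 t2
    calc t * t1 * t2 * (t * t1 * t2) = t * t1 * (t2 * t) * t1 * t2 := by group
      _ = t * t1 * z * t * (t2 * t1) * t2 := by rw [r3']; group
      _ = z * (t * (t1 * t)) * (z * (t1 * t2)) * t2 := by
        rw [mul_assoc t t1 z, ← hzt1.eq, r2']; simp only [← mul_assoc]; rw [hzt.eq]
      _ = z * (t * (z * (t * t1))) * (z * t1) * (t2 * t2) := by rw [r1']; group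
      _ = (z * z) * (t * t) * t1 * (z * t1) := by
        rw [hs2, mul_one]; simp only [← mul_assoc]; rw [mul_assoc z t z, ← hzt.eq]; group
      _ = z := by rw [hP.zz, ht2, one_mul, one_mul, ← mul_assoc, ← hzt1.eq, mul_assoc, hs1, mul_one]
  · show t * t1 * t2 * t = t * (t * t1 * t2)
    clear_value t1 t2
    calc t * t1 * t2 * t = t * (t1 * (t2 * t)) := by group
      _ = t * ((t1 * z) * t * t2) := by rw [r3']; group
      _ = t * (z * (t1 * t) * t2) := by rw [← hzt1.eq]; group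
      _ = t * (t * t1 * t2) := by rw [r1', ← mul_assoc z z, hP.zz, one_mul]

theorem Pair.comm_mem_cB (hP : Pair p n z A C) (h : Ctx G p n) {B B' : Subgroup G}
    (hB : mem p C A B) (hB' : mem p C A B') (hne : B ≠ B') {x y : G} (hx : x ∈ tB C A B)
    (hy : y ∈ tB C A B') : x * y = y * x :=
  hP.comm_cross h hB hB' hne (hP.tB_le hB'.1 hy) x hx

theorem Pair.fixed_of_two (hP : Pair p n z A C) (h : Ctx G p n) {B B' : Subgroup G}
    (hB : mem p C A B) (hB' : mem p C A B') (hne : B ≠ B') {x : G}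
    (hx : x ∈ centralizer (B : Set G)) (hx' : x ∈ centralizer (B' : Set G)) :
    ∀ a ∈ A, a * x = x * a := by
  intro a ha
  have hnle : ¬ B' ≤ B := fun hle => hne <| by
    refine (eq_of_le_of_card_ge hle ?_).symm
    have := h.three
    rw [card_hyper hP.card_eq (by omega) hB.1 hB.2.1, card_hyper hP.card_eq (by omega) hB'.1 hB'.2.1]
  rw [← sup_hyper hB.1 hB.2.1 hB'.1 hnle] at ha
  have hle : B ⊔ B' ≤ centralizer ({x} : Set G) :=
    sup_le (fun b hb => mem_centralizer_singleton_iff.2 (mem_centralizer_iff.1 hx b hb))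
      (fun b hb => mem_centralizer_singleton_iff.2 (mem_centralizer_iff.1 hx' b hb))
  exact mem_centralizer_singleton_iff.1 (hle ha)

theorem card_inf_hyper {A B K : Subgroup G} {k : ℕ} (hBA : B ≤ A) (hB : B.relIndex A = p)
    (hK : K ≤ A) (hKc : Nat.card K = p ^ k) :
    Nat.card ↥(K ⊓ B) = p ^ k ∨ (¬ K ≤ B ∧ Nat.card ↥(K ⊓ B) * p = p ^ k) := by
  by_cases hle : K ≤ B
  · exact Or.inl (by rw [inf_eq_left.2 hle, hKc])
  right
  refine ⟨hle, ?_⟩
  have hpp : p.Prime := Fact.out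
  have h1 : B.relIndex K ≤ p := hB ▸ relIndex_le_of_le_right hK (by rw [hB]; exact hpp.ne_zero)
  have h2 := relIndex_mul_relIndex ⊥ (K ⊓ B) K bot_le inf_le_left
  rw [relIndex_bot_left, relIndex_bot_left, inf_comm, inf_relIndex_right, hKc] at h2
  rw [inf_comm]
  have h3 : B.relIndex K ∣ p ^ k := Dvd.intro_left _ h2
  obtain ⟨i, -, hi⟩ := (Nat.dvd_prime_pow hpp).1 h3
  have h4 : i = 1 := by
    rcases i with _ | _ | i
    · exact absurd (relIndex_eq_one.1 (by simpa using hi)) hle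
    · rfl
    · exfalso
      rw [hi] at h1
      have := Nat.pow_le_pow_right hpp.pos (show 2 ≤ i + 1 + 1 by omega)
      have h5 : p < p ^ 2 := by rw [pow_two]; exact lt_mul_self hpp.one_lt
      omega
  rwa [hi, h4, pow_one] at h2

theorem Pair.eq_three_of_cube (hP : Pair p n z A C) {a x : G} (ha : a ∈ A)
    (hax : a * x ≠ x * a) (h3 : a ^ 3 * x = x * a ^ 3) : p = 3 := by
  by_contra hne
  have hcop : (3 : ℕ).Coprime (orderOf a) :=
    ((Nat.coprime_primes Nat.prime_three (Fact.out : p.Prime)).2 (Ne.symm hne)).coprime_dvd_right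
      (orderOf_dvd_of_pow_eq_one (hP.pow_p ha))
  obtain ⟨m, hm⟩ := exists_pow_eq_self_of_coprime hcop
  exact hax (hm ▸ Commute.pow_left (h3 : Commute (a ^ 3) x) m).eq

theorem Pair.y_moved (hP : Pair p n z A C) (h : Ctx G p n) {B : Subgroup G} (hB : mem p C A B)
    {t : G} (ht : t ∈ tB C A B) (ht2 : t * t = 1) {a : G} (ha : a ∈ A) (hat : a * t ≠ t * a)
    (hy2 : nrm a t * nrm a t = z) :
    a * nrm a t ≠ nrm a t * a ∧ a * (t * nrm a t) ≠ t * nrm a t * a := by
  have htC : t ∈ C := (hP.tB_le hB.1 ht).1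
  set t1 := a * t * a⁻¹ with ht1
  set t2 := a * t1 * a⁻¹ with ht2'
  have m1 : t1 ∈ C := conj_mem (hP.a_norm ha) htC
  have m2 : t2 ∈ C := conj_mem (hP.a_norm ha) m1
  set t3 := a * t2 * a⁻¹ with ht3
  have hy : nrm a t = t * t1 * t2 := rfl
  clear_value t1 t2 t3
  constructor
  · intro hc
    have h0 : t1 * t2 * t3 = t * t1 * t2 := by
      rw [← hy, ← mul_inv_eq_iff_eq_mul.2 hc, hy]
      simp only [ht3, ht2', ht1]; group
    have h1 : Eqz z (t1 * t2 * t3) (t1 * t2 * t) := by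
      rw [h0, mul_assoc t t1 t2]
      exact hP.swapz h htC (mul_mem m1 m2)
    have h2 := Eqz.mul_left (hP.z_comm (inv_mem (mul_mem m1 m2))) h1
    simp only [inv_mul_cancel_left] at h2
    have he : a ^ 3 * t * (a ^ 3)⁻¹ = t3 := by
      simp only [ht3, ht2', ht1, pow_succ, pow_zero, one_mul]; group
    have h3 : a ^ 3 * t = t * a ^ 3 := by
      by_contra h4
      exact hP.not_eqz h (pow_mem ha 3) htC h4 (he ▸ h2)
    have hp3 := hP.eq_three_of_cube ha hat h3
    have haB : a ∉ B := fun hab => hat (mem_centralizer_iff.1 (hP.tB_le hB.1 ht).2 a hab)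
    rcases (mem_zpowers_involution hP.zz).1 (hP.nrm_tB h hp3 hB ha haB t ht) with h4 | h4
    · rw [h4, one_mul] at hy2; exact hP.z_ne hy2.symm
    · rw [h4, hP.zz] at hy2; exact hP.z_ne hy2.symm
  · intro hc
    have e : t * nrm a t = t1 * t2 := by
      rw [hy, ← mul_assoc, ← mul_assoc, ht2, one_mul]
    rw [e] at hc
    have h0 : t2 * t3 = t1 * t2 := by
      rw [← mul_inv_eq_iff_eq_mul.2 hc]
      simp only [ht3, ht2']; group
    have h1 : Eqz z (t2 * t3) (t2 * t1) := by rw [h0]; exact hP.swapz h m1 m2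
    have h2 := Eqz.mul_left (hP.z_comm (inv_mem m2)) h1
    simp only [inv_mul_cancel_left] at h2
    have he : a * a * t1 * (a * a)⁻¹ = t3 := by simp only [ht3, ht2']; group
    have h3 : a * a * t1 = t1 * (a * a) := by
      by_contra h4
      exact hP.not_eqz h (mul_mem ha ha) m1 h4 (he ▸ h2)
    obtain ⟨m, hm⟩ := hP.odd_p h
    have h5 : Commute ((a * a) ^ (m + 1)) t1 := Commute.pow_left h3 (m + 1)
    rw [← pow_two, ← pow_mul, show 2 * (m + 1) = p + 1 by omega, pow_succ, hP.pow_p ha,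
      one_mul] at h5
    refine hat ?_
    calc a * t = t1 * a := by rw [ht1, inv_mul_cancel_right]
      _ = a * t1 := h5.eq.symm
      _ = t * a := by
        have h6 : t = a⁻¹ * (t1 * a) := by rw [ht1]; group
        rw [← h5.eq, inv_mul_cancel_left] at h6
        rw [← h6]
        rw [← h6] at h5
        exact h5.eq

theorem Pair.not_two_inv (hP : Pair p n z A C) (h : Ctx G p n) {B B' : Subgroup G}
    (hB : mem p C A B) (hB' : mem p C A B') (hne : B ≠ B') {t t' : G}
    (ht : t ∈ tB C A B) (ht2 : t * t = 1) (htz : t ∉ zpowers z)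
    (ht' : t' ∈ tB C A B') (ht2' : t' * t' = 1) (htz' : t' ∉ zpowers z) : False := by
  obtain ⟨a₀, ha₀, hat₀, y, hy, hy2, hyt, hya⟩ := hP.exists_y h hB ht ht2 htz
  obtain ⟨-, -, -, y', hy', hy2', hyt', -⟩ := hP.exists_y h hB' ht' ht2' htz'
  have hxy : ∀ {u v : G}, u ∈ tB C A B → v ∈ tB C A B' → u * v = v * u := fun hu hv =>
    hP.comm_mem_cB h hB hB' hne hu hv
  have hfix : ∀ {u : G}, u ∈ tB C A B → u ∈ centralizer (B' : Set G) →
      ∀ a ∈ A, a * u = u * a := fun hu hu' =>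
    hP.fixed_of_two h hB hB' hne (hP.tB_le hB.1 hu).2 hu'
  -- the group `⟨z, t, t'⟩`
  have hct : ∀ e ∈ zpowers z, e * t = t * e := fun e he => by
    rcases (mem_zpowers_involution hP.zz).1 he with rfl | rfl
    · simp
    · exact (hP.z_comm (hP.tB_le hB.1 ht).1).eq
  obtain ⟨hE, hEc⟩ := elem_insert hP.elem_z ht2 hct htz
  have hzB : z ∈ centralizer (B' : Set G) :=
    mem_centralizer_iff.2 fun b hb => hP.comm_z b (hB'.1 hb)
  have hct' : ∀ e ∈ zpowers z ⊔ zpowers t, e * t' = t' * e := by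
    have hle : zpowers z ⊔ zpowers t ≤ centralizer ({t'} : Set G) :=
      sup_le (zpowers_le.2 (mem_centralizer_singleton_iff.2 (hP.z_comm (hP.tB_le hB'.1 ht').1).eq))
        (zpowers_le.2 (mem_centralizer_singleton_iff.2 (hxy ht ht')))
    exact fun e he => mem_centralizer_singleton_iff.1 (hle he)
  have htnot : t' ∉ zpowers z ⊔ zpowers t := by
    intro hm
    have : t ∈ centralizer (B' : Set G) := by
      rcases mem_elem_insert ht2 hct hm with h1 | h1
      · exact absurd h1 htz'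
      · have h2 : t = t'⁻¹ * (t' * t) := by rw [inv_mul_cancel_left]
        rw [h2]
        refine mul_mem (inv_mem (hP.tB_le hB'.1 ht').2) ?_
        rcases (mem_zpowers_involution hP.zz).1 h1 with h3 | h3 <;> rw [h3]
        · exact one_mem _
        · exact hzB
    exact htz ((mem_zpowers_involution hP.zz).2
      (hP.unique_inv h (hP.tB_le hB.1 ht).1 ht2 (hfix ht this)))
  obtain ⟨hE', hEc'⟩ := elem_insert hE ht2' hct' htnot
  have hyy : y * y' * (y * y') = 1 := by
    rw [Commute.mul_mul_mul_comm (hxy hy hy').symm, hy2, hy2', hP.zz]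
  have hcy : ∀ e ∈ zpowers z ⊔ zpowers t ⊔ zpowers t', e * (y * y') = y * y' * e := by
    have hle : zpowers z ⊔ zpowers t ⊔ zpowers t' ≤ centralizer ({y * y'} : Set G) := by
      refine sup_le (sup_le (zpowers_le.2 ?_) (zpowers_le.2 ?_)) (zpowers_le.2 ?_) <;>
        rw [mem_centralizer_singleton_iff]
      · exact (hP.z_comm (mul_mem (hP.tB_le hB.1 hy).1 (hP.tB_le hB'.1 hy').1)).eq
      · exact (Commute.mul_right (hyt : Commute y t).symm (hxy ht hy')).eq
      · exact (Commute.mul_right (hxy hy ht').symm (hyt' : Commute y' t').symm).eq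
    exact fun e he => mem_centralizer_singleton_iff.1 (hle he)
  have hynot : y * y' ∉ zpowers z ⊔ zpowers t ⊔ zpowers t' := by
    intro hm
    have hZt : ∀ e ∈ zpowers z ⊔ zpowers t, e = 1 ∨ e = z ∨ e = t ∨ e = z * t := by
      intro e he
      rcases mem_elem_insert ht2 hct he with h1 | h1 <;>
        rcases (mem_zpowers_involution hP.zz).1 h1 with h2 | h2
      · exact Or.inl h2
      · exact Or.inr (Or.inl h2)
      · exact Or.inr (Or.inr (Or.inl (by
          rw [mul_eq_one_iff_eq_inv] at h2; rw [h2, inv_eq_of_mul_eq_one_right ht2])))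
      · exact Or.inr (Or.inr (Or.inr (by rw [← h2, mul_assoc, ht2, mul_one])))
    -- `y` times an element of `⟨z, t⟩` is centralized by `B'`
    obtain ⟨e, he, hey⟩ : ∃ e ∈ zpowers z ⊔ zpowers t, e * y ∈ centralizer (B' : Set G) := by
      rcases mem_elem_insert ht2' hct' hm with h1 | h1
      · refine ⟨(y * y')⁻¹, inv_mem h1, ?_⟩
        rw [mul_inv_rev, mul_assoc, inv_mul_cancel, mul_one]
        exact inv_mem (hP.tB_le hB'.1 hy').2
      · refine ⟨(y * y' * t')⁻¹, inv_mem h1, ?_⟩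
        rw [mul_assoc y, mul_inv_rev, mul_assoc, inv_mul_cancel, mul_one]
        exact inv_mem (mul_mem (hP.tB_le hB'.1 hy').2 (hP.tB_le hB'.1 ht').2)
    have hyC := hP.tB_le hB.1 hy
    have htC := hP.tB_le hB.1 ht
    obtain ⟨hm1, hm2⟩ := hP.y_moved h hB ht ht2 ha₀ hat₀ (hya ▸ hy2)
    rw [← hya] at hm1 hm2
    have key : ∀ u, u = y ∨ u = t * y → u ∈ centralizer (B' : Set G) → False := by
      rintro u (rfl | rfl) huB
      · exact hm1 (hfix hy huB a₀ ha₀)
      · exact hm2 (hfix (mul_mem ht hy) huB a₀ ha₀)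
    rcases hZt e he with rfl | rfl | rfl | rfl
    · exact key y (Or.inl rfl) (by simpa using hey)
    · exact key y (Or.inl rfl) (by
        have := mul_mem hzB hey
        rwa [← mul_assoc, hP.zz, one_mul] at this)
    · exact key _ (Or.inr rfl) hey
    · exact key (t * y) (Or.inr rfl) (by
        have := mul_mem hzB hey
        rwa [mul_assoc z t, ← mul_assoc z z, hP.zz, one_mul] at this)
  obtain ⟨hE'', hEc''⟩ := elem_insert hE' hyy hcy hynot
  rw [hEc', hEc, hP.card_z] at hEc''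
  have h3 := h.three
  rcases card_inf_hyper (p := p) hB.1 hB.2.1 hB'.1
    (card_hyper hP.card_eq (by omega) hB'.1 hB'.2.1) with h1 | ⟨-, h1⟩
  · exact hne (eq_of_le_of_card_ge (show B' ≤ B from inf_eq_left.1
      (eq_of_le_of_card_ge inf_le_left (by
        rw [card_hyper hP.card_eq (by omega) hB'.1 hB'.2.1, h1])))
      (by rw [card_hyper hP.card_eq (by omega) hB.1 hB.2.1,
        card_hyper hP.card_eq (by omega) hB'.1 hB'.2.1])).symm
  · have hc : Nat.card ↥(B' ⊓ B) = p ^ (n - 2) := by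
      rw [show n - 1 = (n - 2) + 1 by omega, pow_succ] at h1
      exact Nat.eq_of_mul_eq_mul_right (Fact.out : p.Prime).pos h1
    have hcB : ∀ {u : G}, u ∈ centralizer (B : Set G) → u ∈ centralizer ((B' ⊓ B : Subgroup G) : Set G) :=
      fun hu => centralizer_le (inf_le_right (a := B')) hu
    have hcB' : ∀ {u : G}, u ∈ centralizer (B' : Set G) → u ∈ centralizer ((B' ⊓ B : Subgroup G) : Set G) :=
      fun hu => centralizer_le (inf_le_left (b := B)) hu
    have := h.rank_le (elem_mono hP.elem (inf_le_left.trans hB'.1)) hc (by omega) hE'' (e := 4)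
      (by rw [hEc'']; rfl) (by norm_num)
      (sup_le (sup_le (sup_le (zpowers_le.2 (hcB' hzB))
        (zpowers_le.2 (hcB (hP.tB_le hB.1 ht).2)))
        (zpowers_le.2 (hcB' (hP.tB_le hB'.1 ht').2)))
        (zpowers_le.2 (mul_mem (hcB (hP.tB_le hB.1 hy).2) (hcB' (hP.tB_le hB'.1 hy').2))))
    omega

end CfsgLib.Classif.KM
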