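import Cfsg.Agent.Lib.Classif.KlingerMason.Start
import Cfsg.Agent.Lib.Classif.KlingerMason.Module

/-!
# Klinger-Mason: the second involution and the final count
-/

set_option autoImplicit false
set_option linter.unusedSectionVars false

namespace CfsgLib.Classif.KM

open Subgroup CfsgLib.LocalEvenCharP
open scoped commutatorElement

variable {G : Type*} [Group G] [Finite G]
variable {p n : ℕ} [Fact p.Prime] {z : G} {A C : Subgroup G}

/-- The configuration of two pairs. -/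
structure Second (p n d l : ℕ) (z : G) (A C : Subgroup G) (f : ℕ → Subgroup G) (Y : Subgroup G)
    (s : G) (X A' C' : Subgroup G) : Prop where
  pair : Pair p n s A' C'
  eq : A' = Y ⊔ X
  inverts : ∀ x ∈ X, z * x * z⁻¹ = x⁻¹
  fixes : ∀ y ∈ Y, z * y = y * z
  cardY : Nat.card Y = p ^ d
  cardX : Nat.card X = p ^ (2 * l)
  z_comm : z * s = s * z
  not_le : ∀ B, mem p C' A' B → ¬ Y ≤ B
  moved : ∀ B, mem p C A B → B ∉ f '' {i | i < 2 * l} → ∀ t ∈ tB C A B, t * s = s * t

theorem Pair.exists_second (hP : Pair p n z A C) (h : Ctx G p n) {d l : ℕ} (hn : d + 2 * l = n)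
    (hd : 0 < d) {Y : Subgroup G} (hYA : Y ≤ A) (hYc : Nat.card Y = p ^ d) (f : ℕ → Subgroup G)
    (hf : ∀ i < 2 * l, mem p C A (f i) ∧ Y ≤ f i) (hinj : Set.InjOn f {i | i < 2 * l}) :
    ∃ (s : G) (X A' C' : Subgroup G), Second p n d l z A C f Y s X A' C' := by
  have : Fact (Nat.Prime 2) := ⟨Nat.prime_two⟩
  have hodd := hP.odd_p h
  obtain ⟨E, hE, hzE, hEe, hEc⟩ := hP.exists_elem h f l (fun i hi => (hf i hi).1) hinj
  have hfA : ∀ B ∈ f '' {i | i < 2 * l}, B ≤ A := by
    rintro _ ⟨i, hi, rfl⟩; exact (hf i hi).1.1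
  have hEC : E ≤ C := hE.trans (hP.dS_le hfA)
  have hEY : E ≤ centralizer (Y : Set G) := fun e he => mem_centralizer_iff.2 fun y hy =>
    hP.dS_fixed h (hYA hy)
      (by rintro _ ⟨i, hi, rfl⟩; exact ⟨(hf i hi).1.1, (hf i hi).2 hy⟩) (hE he)
  have hY : Cfsg.IsElementaryAbelian p Y := elem_mono hP.elem hYA
  have hY1 : Y ≠ ⊥ := fun hh => by
    rw [hh, card_bot] at hYc
    exact (Nat.one_lt_pow hd.ne' (Fact.out : p.Prime).one_lt).ne hYc
  obtain ⟨S, hSP, hSc, hSp, hSE, hSi, hScard, hSK⟩ :=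
    h.chain hY hY1 hEe hEY hEc (j := 2 * l) (by omega)
  have hzS : ∀ x ∈ S, z * x * z⁻¹ = x⁻¹ := by
    intro x hx
    rcases hSE x hx z hzE with h1 | h1
    · obtain ⟨e, he, hinv⟩ := hSi x hx
      have hxC : x ∈ normalizer (C : Set G) :=
        hP.norm (mem_centralizer_singleton_iff.2 h1.symm)
      have hcomm := commute_of_cross h.odd (isPGroup_pHalf p Y) hP.isTwo (hSP hx) (hEC he) hxC
        (centralizer_le_normalizer_pHalf p Y (hEY he))
      rw [eq_one_of_fixed_inverted hodd (hSp x hx) hcomm.symm hinv]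
      simp
    · exact h1
  set X := closure S with hX
  have hXe : Cfsg.IsElementaryAbelian p X := elem_closure hSc hSp
  have hinv : ∀ x ∈ X, z * x * z⁻¹ = x⁻¹ := by
    intro x hx
    induction hx using closure_induction with
    | mem x hx => exact hzS x hx
    | one => simp
    | mul u v hu hv h1 h2 =>
      rw [show z * (u * v) * z⁻¹ = (z * u * z⁻¹) * (z * v * z⁻¹) by group, h1, h2, mul_inv_rev]
      exact comm_of_elem hXe (inv_mem hu) (inv_mem hv)
    | inv u _ h1 =>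
      rw [show z * u⁻¹ * z⁻¹ = (z * u * z⁻¹)⁻¹ by group, h1]
  have hfix : ∀ y ∈ Y, z * y = y * z := fun y hy => (hP.comm_z y (hYA hy)).symm
  have hXY : X ≤ centralizer (Y : Set G) := (closure_le _).2 fun x hx => (hSP hx).2
  have hYXc : Y ≤ centralizer (X : Set G) := le_centralizer_iff.1 hXY
  have hinf : Y ⊓ X = ⊥ := (eq_bot_iff_forall _).2 fun u hu =>
    eq_one_of_fixed_inverted hodd (hY.2 u hu.1) (hfix u hu.1) (hinv u hu.2)
  have hXc : Nat.card X = p ^ (2 * l) := by
    have h1 := card_sup_of_disjoint hYXc hinf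
    rw [hScard] at h1
    exact (Nat.eq_of_mul_eq_mul_left Nat.card_pos h1).symm
  have hA'c : Nat.card ↥(Y ⊔ X) = p ^ n := by
    rw [card_sup_of_disjoint hYXc hinf, hYc, hXc, ← pow_add, hn]
  have hK : Nat.card ↥(E ⊓ centralizer S) = 2 := by
    rw [hEc, pow_succ'] at hSK
    exact Nat.eq_of_mul_eq_mul_right (by positivity) hSK
  obtain ⟨⟨s, hs⟩, hso⟩ := exists_prime_orderOf_dvd_card' 2 hK.symm.dvd
  rw [orderOf_mk] at hso
  have hsS : ∀ a ∈ Y ⊔ X, a * s = s * a := by
    have hle : Y ⊔ X ≤ centralizer ({s} : Set G) := by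
      refine sup_le (fun y hy => ?_) ((closure_le _).2 fun x hx => ?_)
      · exact mem_centralizer_singleton_iff.2 (mem_centralizer_iff.1 (hEY hs.1) y hy)
      · exact mem_centralizer_singleton_iff.2 (mem_centralizer_iff.1 hs.2 x hx)
    exact fun a ha => mem_centralizer_singleton_iff.1 (hle ha)
  have hA'e : Cfsg.IsElementaryAbelian p (Y ⊔ X) := elem_sup hY hXe hYXc
  obtain ⟨C', hP'⟩ := exists_pair_of_involution h hA'e hA'c hso hsS
  refine ⟨s, X, Y ⊔ X, C', hP', rfl, hinv, hfix, hYc, hXc, (hP.z_comm (hEC hs.1)).eq, ?_, ?_⟩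
  · intro B hB hYB
    obtain ⟨t, ht, u, hu, htu⟩ := (hP'.exists_noncomm_pair h hB (hP'.noinv h hB)).2
    have htR := hP'.tB_le hB.1 ht
    have htY : t ∈ centralizer (Y : Set G) := centralizer_le hYB htR.2
    have htA : ∀ a ∈ Y ⊔ X, a * t = t * a := by
      have hle : Y ⊔ X ≤ centralizer ({t} : Set G) := by
        refine sup_le (fun y hy => mem_centralizer_singleton_iff.2
          (mem_centralizer_iff.1 htY y hy)) ((closure_le _).2 fun x hx => ?_)
        exact mem_centralizer_singleton_iff.2 (commute_of_cross h.odd (isPGroup_pHalf p Y)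
          hP'.isTwo (hSP hx) htR.1
          (hP'.norm (mem_centralizer_singleton_iff.2 (mem_centralizer_iff.1 hs.2 x hx)))
          (centralizer_le_normalizer_pHalf p Y htY))
      exact fun a ha => mem_centralizer_singleton_iff.1 (hle ha)
    exact htu (hP'.comm_fixed_tB h hB.1 htR.1 htA u hu).symm
  · intro B hB hBS t ht
    exact (hP.comm_outside h (S := f '' {i | i < 2 * l})
      (by rintro _ ⟨i, hi, rfl⟩; exact (hf i hi).1) hB hBS (hE hs.1) ht).symm

variable {d l : ℕ} {f : ℕ → Subgroup G} {Y X A' C' : Subgroup G} {s : G}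

theorem Second.X_le (hS : Second p n d l z A C f Y s X A' C') : X ≤ A' := hS.eq ▸ le_sup_right

theorem Second.Y_le (hS : Second p n d l z A C f Y s X A' C') : Y ≤ A' := hS.eq ▸ le_sup_left

theorem Second.z_norm_C (hS : Second p n d l z A C f Y s X A' C') :
    z ∈ normalizer (C' : Set G) :=
  hS.pair.norm (mem_centralizer_singleton_iff.2 hS.z_comm)

theorem Second.z_norm_A (hS : Second p n d l z A C f Y s X A' C') (hP : Pair p n z A C) :
    z ∈ normalizer (A' : Set G) := by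
  have hconj : ∀ u ∈ A', z * u * z⁻¹ ∈ A' := by
    intro u hu
    suffices hle : A' ≤ A'.comap (MulAut.conj z).toMonoidHom from hle hu
    refine hS.eq.le.trans (sup_le (fun y hy => ?_) (fun x hx => ?_))
    · show z * y * z⁻¹ ∈ A'
      rw [hS.fixes y hy, mul_inv_cancel_right]
      exact hS.Y_le hy
    · show z * x * z⁻¹ ∈ A'
      rw [hS.inverts x hx]
      exact hS.X_le (inv_mem hx)
  rw [mem_normalizer_iff]
  intro u
  refine ⟨hconj u, fun hu => ?_⟩
  have h1 := hconj _ hu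
  rwa [show z * (z * u * z⁻¹) * z⁻¹ = (z * z) * u * (z * z)⁻¹ by group, hP.zz, one_mul, inv_one,
    mul_one] at h1

theorem Second.mem_cj (hS : Second p n d l z A C f Y s X A' C') (hP : Pair p n z A C)
    {B : Subgroup G} (hB : mem p C' A' B) : mem p C' A' (cj z B) :=
  mem_cj_of_mem (hS.z_norm_A hP) hS.z_norm_C hB

theorem Second.inter_le_cj (hS : Second p n d l z A C f Y s X A' C') {B : Subgroup G} :
    B ⊓ X ≤ cj z B := by
  intro x hx
  refine ⟨x⁻¹, inv_mem hx.1, ?_⟩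
  show z * x⁻¹ * z⁻¹ = x
  rw [hS.inverts _ (inv_mem hx.2), inv_inv]

theorem Second.fix_mem_cj (hS : Second p n d l z A C f Y s X A' C') {B : Subgroup G} {y : G}
    (hy : y ∈ Y) (hyB : y ∈ B) : y ∈ cj z B := by
  refine ⟨y, hyB, ?_⟩
  show z * y * z⁻¹ = y
  rw [hS.fixes y hy, mul_inv_cancel_right]

theorem Second.card_inter_Y (hS : Second p n d l z A C f Y s X A' C') {B : Subgroup G}
    (hB : mem p C' A' B) : Nat.card ↥(Y ⊓ B) * p = p ^ d := by
  rcases card_inf_hyper hB.1 hB.2.1 hS.Y_le hS.cardY with h1 | ⟨-, h1⟩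
  · exact absurd (inf_eq_left.1 (eq_of_le_of_card_ge inf_le_left (by rw [hS.cardY, h1])))
      (hS.not_le B hB)
  · exact h1

theorem Second.fixed_eq (hS : Second p n d l z A C f Y s X A' C') (hP : Pair p n z A C)
    (h : Ctx G p n) (hd : 0 < d) (hn : d + 2 * l = n) {B : Subgroup G} (hB : mem p C' A' B)
    (hfix : cj z B = B) : X ≤ B ∧ B = (Y ⊓ B) ⊔ X := by
  have hpp : p.Prime := Fact.out
  have hodd := hP.odd_p h
  have hXYc : Y ≤ centralizer (X : Set G) := fun y hy => mem_centralizer_iff.2 fun x hx =>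
    comm_of_elem hS.pair.elem (hS.X_le hx) (hS.Y_le hy)
  have hdecomp : B ≤ (Y ⊓ B) ⊔ (X ⊓ B) := by
    intro b hb
    have hbA : b ∈ Y ⊔ X := hS.eq.le (hB.1 hb)
    obtain ⟨y, hy, x, hx, rfl⟩ := CfsgLib.Techniques.exists_mul_of_mem_sup
      (hXYc.trans (centralizer_le_normalizer _)) hbA
    have h1 : z * (y * x) * z⁻¹ ∈ B := by
      have := CfsgLib.Classif.KM.mem_cj (g := z) hb
      rwa [hfix] at this
    rw [show z * (y * x) * z⁻¹ = (z * y * z⁻¹) * (z * x * z⁻¹) by group, hS.fixes y hy,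
      mul_inv_cancel_right, hS.inverts x hx] at h1
    have h2 : x * x ∈ B := by
      have := mul_mem (inv_mem h1) hb
      rwa [show (y * x⁻¹)⁻¹ * (y * x) = x * x by group] at this
    obtain ⟨m, hm⟩ := hodd
    have hxB : x ∈ B := by
      have h3 := pow_mem h2 (m + 1)
      rwa [← pow_two, ← pow_mul, show 2 * (m + 1) = p + 1 by omega, pow_succ,
        hS.pair.pow_p (hS.X_le hx), one_mul] at h3
    exact mul_mem (mem_sup_left (mem_inf.2 ⟨(hy), by
      have := mul_mem hb (inv_mem hxB); rwa [mul_inv_cancel_right] at this⟩))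
      (mem_sup_right (mem_inf.2 ⟨hx, hxB⟩))
  have hle := Nat.card_le_card_of_injective (Subgroup.inclusion hdecomp)
    (Subgroup.inclusion_injective hdecomp)
  have hcd := hS.card_inter_Y hB
  have hBc := card_hyper hS.pair.card_eq (by omega) hB.1 hB.2.1
  have hcc := card_sup_mul_inf (A := Y ⊓ B) (B := X ⊓ B)
    ((inf_le_left.trans hXYc).trans (centralizer_le inf_le_left))
  have hpos : 0 < Nat.card ↥((Y ⊓ B) ⊓ (X ⊓ B)) := Nat.card_pos
  have hge : Nat.card X ≤ Nat.card ↥(X ⊓ B) := by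
    rw [hS.cardX]
    have h1 : Nat.card B ≤ Nat.card ↥(Y ⊓ B) * Nat.card ↥(X ⊓ B) :=
      le_trans hle (by rw [← hcc]; exact Nat.le_mul_of_pos_right _ hpos)
    rw [hBc] at h1
    have h2 : p ^ (n - 1) = Nat.card ↥(Y ⊓ B) * p ^ (2 * l) := by
      refine Nat.eq_of_mul_eq_mul_right hpp.pos ?_
      rw [mul_right_comm, hcd, ← pow_add, ← pow_succ]
      congr 1
      omega
    rw [h2] at h1
    exact Nat.le_of_mul_le_mul_left h1 Nat.card_pos
  have hXB : X ≤ B := inf_eq_left.1 (eq_of_le_of_card_ge inf_le_left hge)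
  refine ⟨hXB, le_antisymm (hdecomp.trans (sup_le_sup le_rfl inf_le_left))
    (sup_le inf_le_right hXB)⟩

/-- The bound from the fixed-point-free action of an element of order 3. -/
theorem Second.count (hS : Second p n d l z A C f Y s X A' C') (hP : Pair p n z A C)
    (h : Ctx G p n) (hYA : Y ≤ A) {Bo : Subgroup G} (hBo : mem p C A Bo)
    (hBoS : Bo ∉ f '' {i | i < 2 * l}) {k u : G} (hk : k ∈ Y) (hkBo : k ∈ Bo) (hu : u ∈ Y)
    (huBo : u ∉ Bo) (hno : ∀ B, mem p C' A' B → k ∈ B → u ∉ B) :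
    ∃ R : Finset (Subgroup G), (∀ B ∈ R, mem p C' A' B ∧ k ∈ B ∧ cj z B ≠ B) ∧
      (∀ B, mem p C' A' B → k ∈ B → cj z B ≠ B → B ∈ R ∨ cj z B ∈ R) ∧
      ∀ Fs : Finset (Subgroup G), (∀ B, mem p C' A' B → k ∈ B → cj z B = B → B ∈ Fs) →
        R.card ≤ Fs.card := by
  classical
  have hP' := hS.pair
  have hzA := hS.z_norm_A hP
  have hzC := hS.z_norm_C
  set Sk : Set (Subgroup G) := {B | mem p C' A' B ∧ k ∈ B} with hSk
  -- a maximal set of representatives
  obtain ⟨R, ⟨hR1, hR2⟩, hRmax⟩ := ({R : Finset (Subgroup G) | (∀ B ∈ R, B ∈ Sk ∧ cj z B ≠ B) ∧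
      ∀ B ∈ R, cj z B ∉ R}).toFinite.exists_maximal ⟨∅, by simp⟩
  refine ⟨R, fun B hB => ⟨(hR1 B hB).1.1, (hR1 B hB).1.2, (hR1 B hB).2⟩, fun B hB hkB hne => ?_, ?_⟩
  · by_contra hh
    push Not at hh
    obtain ⟨h1, h2⟩ := hh
    refine h1 ((hRmax (y := insert B R) ⟨?_, ?_⟩ (Finset.subset_insert B R))
      (Finset.mem_insert_self B R))
    · intro B' hB'
      rcases Finset.mem_insert.1 hB' with rfl | hB'
      · exact ⟨⟨hB, hkB⟩, hne⟩
      · exact hR1 B' hB'
    · intro B' hB' hc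
      rcases Finset.mem_insert.1 hB' with rfl | hB' <;> rcases Finset.mem_insert.1 hc with hc | hc
      · exact hne hc
      · exact h2 hc
      · refine h2 ?_
        rw [← hc, cj_cj hP.zz]
        exact hB'
      · exact hR2 B' hB' hc
  intro Fs hFs
  set S' : Finset (Subgroup G) := Sk.toFinite.toFinset with hS'def
  have hS'mem : ∀ {B}, B ∈ S' ↔ mem p C' A' B ∧ k ∈ B := fun {B} => Set.Finite.mem_toFinset _
  have hcover : S' ⊆ R ∪ R.image (cj z) ∪ Fs := by
    intro B hB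
    rw [hS'mem] at hB
    simp only [Finset.mem_union, Finset.mem_image]
    by_cases hfx : cj z B = B
    · exact Or.inr (hFs B hB.1 hB.2 hfx)
    · by_cases hBR : B ∈ R
      · exact Or.inl (Or.inl hBR)
      · refine Or.inl (Or.inr ⟨cj z B, ?_, cj_cj hP.zz B⟩)
        by_contra hcR
        refine hBR ((hRmax (y := insert B R) ⟨?_, ?_⟩ (Finset.subset_insert B R))
          (Finset.mem_insert_self B R))
        · intro B' hB'
          rcases Finset.mem_insert.1 hB' with rfl | hB'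
          · exact ⟨⟨hB.1, hB.2⟩, hfx⟩
          · exact hR1 B' hB'
        · intro B' hB' hc
          rcases Finset.mem_insert.1 hB' with rfl | hB' <;>
            rcases Finset.mem_insert.1 hc with hc | hc
          · exact hfx hc
          · exact hcR hc
          · refine hcR ?_
            rw [← hc, cj_cj hP.zz]
            exact hB'
          · exact hR2 B' hB' hc
  have hcard : S'.card ≤ R.card + R.card + Fs.card :=
    le_trans (Finset.card_le_card hcover) (le_trans (Finset.card_union_le _ _)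
      (Nat.add_le_add_right (le_trans (Finset.card_union_le _ _)
        (Nat.add_le_add_left Finset.card_image_le _)) _))
  -- the fixed-point-free action
  set W := C' ⊓ centralizer (C' : Set G) with hW
  set D := dS C' A' (S' : Set (Subgroup G)) with hD
  have hS'A : ∀ B ∈ (S' : Set (Subgroup G)), B ≤ A' := fun B hB => (hS'mem.1 hB).1.1
  have hDC : D ≤ C' := hP'.dS_le hS'A
  have hnormD : ∀ {g : G}, g * s = s * g → g * k = k * g → g ∈ normalizer (D : Set G) := by
    intro g hgs hgk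
    have hgC : g ∈ normalizer (C' : Set G) :=
      hP'.norm (mem_centralizer_singleton_iff.2 hgs)
    have key : ∀ g' : G, g' ∈ normalizer (C' : Set G) → g' * k = k * g' →
        ∀ x ∈ D, g' * x * g'⁻¹ ∈ D := by
      intro g' hg'C hg'k x hx
      have hxk : k * x = x * k :=
        hP'.dS_fixed h (hS.Y_le hk) (fun B hB => ⟨hS'A B hB, (hS'mem.1 hB).2⟩) hx
      have h1 : Commute k (g' * x * g'⁻¹) :=
        ((Commute.mul_right (Commute.symm hg'k) hxk).mul_right
          (Commute.inv_right (Commute.symm hg'k)))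
      have h2 := hP'.mem_dS_of_fixed h (hS.Y_le hk) (conj_mem hg'C (hDC hx)) (by
        rw [h1.eq, mul_inv_cancel_right, inv_mul_cancel]; exact one_mem _)
      rw [hD]
      refine dS_mono ?_ h2
      intro B hB
      exact hS'mem.2 hB
    rw [mem_normalizer_iff]
    intro x
    refine ⟨key g hgC hgk x, fun hx => ?_⟩
    have := key g⁻¹ (inv_mem hgC) (Commute.inv_left hgk).eq _ hx
    rwa [show g⁻¹ * (g * x * g⁻¹) * g⁻¹⁻¹ = x by group] at this
  have hnormW : ∀ {g : G}, g * s = s * g → g ∈ normalizer (W : Set G) := by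
    intro g hgs
    have hgC : g ∈ normalizer (C' : Set G) :=
      hP'.norm (mem_centralizer_singleton_iff.2 hgs)
    have key : ∀ g' : G, g' ∈ normalizer (C' : Set G) → ∀ x ∈ W, g' * x * g'⁻¹ ∈ W := by
      intro g' hg' x hx
      refine mem_inf.2 ⟨conj_mem hg' hx.1, mem_centralizer_iff.2 fun y hy => ?_⟩
      have h1 := mem_centralizer_iff.1 hx.2 _ (conj_mem (inv_mem hg') hy)
      calc y * (g' * x * g'⁻¹) = g' * ((g'⁻¹ * y * g'⁻¹⁻¹) * x) * g'⁻¹ := by group
        _ = g' * (x * (g'⁻¹ * y * g'⁻¹⁻¹)) * g'⁻¹ := by rw [h1]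
        _ = _ := by group
    rw [mem_normalizer_iff]
    intro x
    refine ⟨key g hgC x, fun hx => ?_⟩
    have := key g⁻¹ (inv_mem hgC) _ hx
    rwa [show g⁻¹ * (g * x * g⁻¹) * g⁻¹⁻¹ = x by group] at this
  have hp3 := hP.eq_three h
  have huA : u ∈ A := hYA hu
  obtain ⟨i, j, k', hi, hj, hk', hi2, hij, hkij, -⟩ := hP.quat h hBo huA huBo
  have his : i * s = s * i := hS.moved Bo hBo hBoS i hi
  have hik : i * k = k * i := (mem_centralizer_iff.1 (hP.tB_le hBo.1 hi).2 k hkBo).symm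
  have hus : u * s = s * u := hS.pair.comm_z u (hS.Y_le hu)
  have huk : u * k = k * u := comm_of_elem hP.elem huA (hYA hk)
  have hmainS : ∀ B ∈ (S' : Set (Subgroup G)), mem p C' A' B := fun B hB => (hS'mem.1 hB).1
  have hR' : ∀ B ∈ (R : Set (Subgroup G)), mem p C' A' B := fun B hB => (hR1 B hB).1.1
  have hineq := fpf_bound (D := D) (W := W) (centre_le_dS C' A' _)
    (fun x hx y hy => hP'.comm_mem x (hDC hx) y (hDC hy))
    (fun x hx => hP'.sq_mem x (hDC hx)) (b := u) hi2 hP.zz (hP.comm_z u huA) hj hk'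
    (by have := hP.pow_p huA; rwa [hp3, pow_succ, pow_two] at this) hij
    (by rcases hkij with h1 | h1; exacts [Or.inl h1, Or.inr h1])
    (hnormD his hik) (hnormW his) (hnormD hus huk) (hnormW hus)
    (fun x hx => by
      have h1 := hP'.nrm_mem_dS h (hS.Y_le hu) x (hDC hx)
      have hxk : ∀ v ∈ D, k * v = v * k := fun v hv =>
        hP'.dS_fixed h (hS.Y_le hk) (fun B hB => ⟨hS'A B hB, (hS'mem.1 hB).2⟩) hv
      have hmem : ∀ v ∈ D, u * v * u⁻¹ ∈ D := fun v hv => conj_mem (hnormD hus huk) hv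
      have h2 : nrm u x ∈ D := mul_mem (mul_mem hx (hmem x hx)) (hmem _ (hmem x hx))
      exact hP'.dS_disjoint h (fun B hB => hB.1) hmainS
        (fun B hB hB' => hno B hB.1 (hS'mem.1 hB').2 hB.2) h1 h2)
    (U := dS C' A' (R : Set (Subgroup G)))
    (dS_mono fun B hB => hS'mem.2 (hR1 B hB).1)
    (fun v hv hvW => by
      have h1 : z * v * z⁻¹ ∈ dS C' A' (R : Set (Subgroup G)) := by
        have := mul_mem hv (centre_le_dS C' A' (R : Set (Subgroup G)) hvW)
        rwa [mul_inv_cancel_left] at this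
      have h2 := conj_dS_mem hzA hzC hv
      have h3 := hP'.dS_disjoint h hR'
        (S' := cj z '' (R : Set (Subgroup G)))
        (by rintro _ ⟨B, hB, rfl⟩; exact hS.mem_cj hP (hR' B hB))
        (by
          rintro B hB ⟨B', hB', rfl⟩
          exact hR2 B' hB' hB) h1 h2
      have h4 := conj_mem (hnormW hS.z_comm) h3
      rwa [show z * (z * v * z⁻¹) * z⁻¹ = (z * z) * v * (z * z)⁻¹ by group, hP.zz, one_mul,
        inv_one, mul_one] at h4)
  have hWpos : 0 < Nat.card W := Nat.card_pos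
  have hrel : ∀ T : Finset (Subgroup G), (∀ B ∈ T, mem p C' A' B) →
      W.relIndex (dS C' A' (T : Set (Subgroup G))) = 4 ^ T.card := by
    intro T hT
    have h1 := relIndex_mul_relIndex ⊥ W _ bot_le (centre_le_dS C' A' (T : Set (Subgroup G)))
    rw [relIndex_bot_left, relIndex_bot_left, hP'.card_dS h T hT] at h1
    exact Nat.eq_of_mul_eq_mul_left hWpos h1
  rw [hrel R fun B hB => hR' B hB, hD, hrel S' fun B hB => hmainS B hB, ← pow_mul] at hineq
  have := (Nat.pow_le_pow_iff_right (by norm_num : 1 < 4)).1 hineq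
  omega

/-- No member contains `u` and at most one member is fixed: impossible. -/
theorem Second.finish (hS : Second p n d l z A C f Y s X A' C') (hP : Pair p n z A C)
    (h : Ctx G p n) (hd : 0 < d) (hn : d + 2 * l = n) (hl : 0 < l) (hYA : Y ≤ A)
    {Bo : Subgroup G} (hBo : mem p C A Bo) (hBoS : Bo ∉ f '' {i | i < 2 * l}) {u : G}
    (hu : u ∈ Y) (huBo : u ∉ Bo) (hno : ∀ B, mem p C' A' B → u ∉ B)
    (hone : ∀ B F F', mem p C' A' B → cj z B ≠ B → mem p C' A' F → cj z F = F →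
      mem p C' A' F' → cj z F' = F' → F = F') : False := by
  classical
  obtain ⟨R, hR, hcov, hcount⟩ := hS.count hP h hYA hBo hBoS (k := 1) (one_mem Y) (one_mem Bo) hu
    huBo fun B hB _ => hno B hB
  by_cases hmov : ∃ B, mem p C' A' B ∧ cj z B ≠ B
  · obtain ⟨B, hB, hne⟩ := hmov
    have hfin := ({F : Subgroup G | mem p C' A' F ∧ cj z F = F}).toFinite
    have hle : R.card ≤ 1 := le_trans
      (hcount hfin.toFinset fun F hF _ hfx => hfin.mem_toFinset.2 ⟨hF, hfx⟩)
      (Finset.card_le_one.2 fun F hF F' hF' => by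
        rw [Set.Finite.mem_toFinset] at hF hF'
        exact hone B F F' hB hne hF.1 hF.2 hF'.1 hF'.2)
    obtain ⟨x, hx, hx1⟩ : ∃ x ∈ X ⊓ B, x ≠ 1 := by
      refine (bot_or_exists_ne_one _).resolve_left fun hbot => ?_
      rcases card_inf_hyper hB.1 hB.2.1 hS.X_le hS.cardX with h1 | ⟨-, h1⟩
      · rw [hbot, card_bot] at h1
        exact (Nat.one_lt_pow (by omega) (Fact.out : p.Prime).one_lt).ne h1
      · rw [hbot, card_bot, one_mul] at h1
        have h2 := Nat.pow_right_injective (Fact.out : p.Prime).two_le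
          (show p ^ 1 = p ^ (2 * l) by rw [pow_one]; exact h1)
        omega
    refine hx1 (hS.pair.inter_trivial h (hS.X_le hx.1) fun D hD => ?_)
    by_cases hfx : cj z D = D
    · exact (hS.fixed_eq hP h hd hn hD hfx).1 hx.1
    have hone' : ∀ {D' : Subgroup G}, D' ∈ R → ∀ {B' : Subgroup G}, B' ∈ R → D' = B' :=
      fun hD' _ hB' => Finset.card_le_one.1 hle _ hD' _ hB'
    have hxB : x ∈ B := hx.2
    have hxB' : x ∈ cj z B := hS.inter_le_cj (mem_inf.2 ⟨hx.2, hx.1⟩)
    rcases hcov B hB (one_mem B) hne with h1 | h1 <;> rcases hcov D hD (one_mem D) hfx with h2 | h2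
    · rw [hone' h2 h1]; exact hxB
    · rw [← cj_cj hP.zz D, hone' h2 h1]; exact hxB'
    · rw [hone' h2 h1]; exact hxB'
    · rw [← cj_cj hP.zz D, hone' h2 h1, cj_cj hP.zz B]; exact hxB
  · push Not at hmov
    obtain ⟨x, hx, hx1⟩ : ∃ x ∈ X, x ≠ 1 := by
      refine (bot_or_exists_ne_one _).resolve_left fun hbot => ?_
      have := hS.cardX
      rw [hbot, card_bot] at this
      exact (Nat.one_lt_pow (by omega) (Fact.out : p.Prime).one_lt).ne this
    exact hx1 (hS.pair.inter_trivial h (hS.X_le hx) fun D hD =>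
      (hS.fixed_eq hP h hd hn hD (hmov D hD)).1 hx)

theorem four_inj {a b c d : Subgroup G} (hab : a ≠ b) (hac : a ≠ c) (had : a ≠ d) (hbc : b ≠ c)
    (hbd : b ≠ d) (hcd : c ≠ d) :
    Set.InjOn (fun i : ℕ => if i = 0 then a else if i = 1 then b else if i = 2 then c else d)
      {i | i < 4} := by
  intro i hi j hj he
  simp only [Set.mem_ofPred_eq] at hi hj
  interval_cases i <;> interval_cases j <;> simp_all

/-- Four distinct members containing `K`. -/
theorem Pair.four_members' (hP : Pair p n z A C) (h : Ctx G p n) {K B1 B2 B3 B4 : Subgroup G}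
    {k : ℕ} (hKA : K ≤ A) (hK : Nat.card K = p ^ k) (hk : 0 < k) (hn : n ≤ k + 3)
    (h1 : mem p C A B1 ∧ K ≤ B1) (h2 : mem p C A B2 ∧ K ≤ B2) (h3 : mem p C A B3 ∧ K ≤ B3)
    (h4 : mem p C A B4 ∧ K ≤ B4) (h12 : B1 ≠ B2) (h13 : B1 ≠ B3) (h14 : B1 ≠ B4) (h23 : B2 ≠ B3)
    (h24 : B2 ≠ B4) (h34 : B3 ≠ B4) : False := by
  refine hP.four_members h hKA hK hk hn _ (fun i hi => ?_) (four_inj h12 h13 h14 h23 h24 h34)
  interval_cases i <;> simp <;> assumption

/-- The case of odd `n`. -/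
theorem Pair.false_odd (hP : Pair p n z A C) (h : Ctx G p n) {l : ℕ} (hn : n = 2 * l + 1) :
    False := by
  have h3 := h.three
  have hpp : p.Prime := Fact.out
  obtain ⟨f, hf, hc, hinj⟩ := hP.exists_indep h
  set Y := chainInf A f (2 * l) with hY
  have hYc : Nat.card Y = p ^ 1 := by
    rw [hY, hc _ (by omega), show n - 2 * l = 1 by omega]
  obtain ⟨s, X, A', C', hS⟩ := hP.exists_second h (d := 1) (l := l) (by omega) one_pos
    (chainInf_le A f _) hYc f
    (fun i hi => ⟨hf i (by omega), chainInf_le_apply A f hi⟩)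
    (hinj.mono fun i (hi : i < 2 * l) => (show i < n by omega))
  obtain ⟨u, hu, hu1⟩ : ∃ u ∈ Y, u ≠ 1 := (bot_or_exists_ne_one _).resolve_left fun hbot => by
    rw [hbot, card_bot, pow_one] at hYc
    exact hpp.ne_one hYc.symm
  have hbotn : chainInf A f (2 * l + 1) = ⊥ :=
    Subgroup.card_eq_one.1 (by rw [hc _ (by omega), show n - (2 * l + 1) = 0 by omega, pow_zero])
  have huBo : u ∉ f (2 * l) := fun hm => hu1 <| by
    have h1 : u ∈ chainInf A f (2 * l + 1) := mem_inf.2 ⟨hu, hm⟩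
    rwa [hbotn, mem_bot] at h1
  have hYb : ∀ B, mem p C' A' B → Y ⊓ B = ⊥ := fun B hB => by
    have h1 := hS.card_inter_Y hB
    rw [pow_one] at h1
    exact Subgroup.card_eq_one.1 (mul_eq_right₀ hpp.ne_zero |>.1 h1)
  refine hS.finish hP h one_pos (by omega) (by omega) (chainInf_le A f _)
    (Bo := f (2 * l)) (hf _ (by omega)) ?_ hu huBo (fun B hB hm => hu1 ?_)
    (fun B F F' _ _ hF hFf hF' hFf' => ?_)
  · rintro ⟨i, hi, he⟩
    simp only [Set.mem_ofPred_eq] at hi
    have := hinj (show i < n by omega) (show 2 * l < n by omega) he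
    omega
  · have h1 : u ∈ Y ⊓ B := mem_inf.2 ⟨hu, hm⟩
    rwa [hYb B hB, mem_bot] at h1
  · rw [(hS.fixed_eq hP h one_pos (by omega) hF hFf).2,
      (hS.fixed_eq hP h one_pos (by omega) hF' hFf').2, hYb F hF, hYb F' hF']

/-- The case of even `n`. -/
theorem Pair.false_even (hP : Pair p n z A C) (h : Ctx G p n) {l : ℕ} (hn : n = 2 * l + 2) :
    False := by
  classical
  have h3 := h.three
  have hpp : p.Prime := Fact.out
  obtain ⟨f, hf, hc, hinj⟩ := hP.exists_indep h
  set Y := chainInf A f (2 * l) with hY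
  have hYA : Y ≤ A := chainInf_le A f _
  have hYc : Nat.card Y = p ^ 2 := by
    rw [hY, hc _ (by omega), show n - 2 * l = 2 by omega]
  obtain ⟨s, X, A', C', hS⟩ := hP.exists_second h (d := 2) (l := l) (by omega) two_pos
    hYA hYc f (fun i hi => ⟨hf i (by omega), chainInf_le_apply A f hi⟩)
    (hinj.mono fun i (hi : i < 2 * l) => (show i < n by omega))
  have hnotS : ∀ j, 2 * l ≤ j → j < n → f j ∉ f '' {i | i < 2 * l} := by
    rintro j hj hj' ⟨i, hi, he⟩
    simp only [Set.mem_ofPred_eq] at hi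
    have := hinj (show i < n by omega) (show j < n by omega) he
    omega
  set P := f (2 * l) with hPdef
  set Q := f (2 * l + 1) with hQdef
  have hK2c : Nat.card ↥(Y ⊓ P) = p := by
    have h1 := hc (2 * l + 1) (by omega)
    rwa [show n - (2 * l + 1) = 1 by omega, pow_one] at h1
  have hbot : Y ⊓ P ⊓ Q = ⊥ := Subgroup.card_eq_one.1 (by
    have h1 := hc (2 * l + 2) (by omega)
    rwa [show n - (2 * l + 2) = 0 by omega, pow_zero] at h1)
  have hK1c : Nat.card ↥(Y ⊓ Q) = p := by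
    rcases card_inf_hyper (hf (2 * l + 1) (by omega)).1 (hf (2 * l + 1) (by omega)).2.1 hYA hYc
      with h1 | ⟨-, h1⟩
    · exfalso
      have h2 : Y ≤ Q :=
        inf_eq_left.1 (eq_of_le_of_card_ge inf_le_left (by rw [hYc, h1]))
      have h4 : Y ⊓ P ⊓ Q = Y ⊓ P := inf_eq_left.2 (inf_le_left.trans h2)
      rw [h4] at hbot
      rw [hbot, card_bot] at hK2c
      exact hpp.ne_one hK2c.symm
    · rw [pow_two] at h1
      exact Nat.eq_of_mul_eq_mul_right hpp.pos h1
  obtain ⟨k₁, hk₁, hk₁1⟩ : ∃ k ∈ Y ⊓ Q, k ≠ 1 := (bot_or_exists_ne_one _).resolve_left fun hb => by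
    rw [hb, card_bot] at hK1c; exact hpp.ne_one hK1c.symm
  obtain ⟨k₂, hk₂, hk₂1⟩ : ∃ k ∈ Y ⊓ P, k ≠ 1 := (bot_or_exists_ne_one _).resolve_left fun hb => by
    rw [hb, card_bot] at hK2c; exact hpp.ne_one hK2c.symm
  have hk₂Q : k₂ ∉ Q := fun hm => hk₂1 <| by
    have h1 : k₂ ∈ Y ⊓ P ⊓ Q := mem_inf.2 ⟨hk₂, hm⟩
    rwa [hbot, mem_bot] at h1
  have hk₁P : k₁ ∉ P := fun hm => hk₁1 <| by
    have h1 : k₁ ∈ Y ⊓ P ⊓ Q := mem_inf.2 ⟨⟨hk₁.1, hm⟩, hk₁.2⟩
    rwa [hbot, mem_bot] at h1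
  have hgen : ∀ {k : G}, k ∈ Y → k ≠ 1 → Nat.card (zpowers k) = p := fun hk hk1 => by
    rw [Nat.card_zpowers, orderOf_eq_prime (hP.pow_p (hYA hk)) hk1]
  -- no member of the second pair contains both
  have hno : ∀ B, mem p C' A' B → k₁ ∈ B → k₂ ∉ B := by
    intro B hB h1 h2
    refine hS.not_le B hB ?_
    have hinf : zpowers k₁ ⊓ zpowers k₂ = ⊥ := le_bot_iff.1 fun x hx => by
      rw [← hbot]
      exact mem_inf.2 ⟨zpowers_le.2 hk₂ hx.2, zpowers_le.2 hk₁.2 hx.1⟩
    have hcen : zpowers k₁ ≤ centralizer (zpowers k₂ : Set G) := fun x hx =>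
      mem_centralizer_iff.2 fun y hy => comm_of_elem hP.elem (zpowers_le.2 (hYA hk₂.1) hy)
        (zpowers_le.2 (hYA hk₁.1) hx)
    have hYeq : zpowers k₁ ⊔ zpowers k₂ = Y :=
      eq_of_le_of_card_ge (sup_le (zpowers_le.2 hk₁.1) (zpowers_le.2 hk₂.1)) (by
        rw [card_sup_of_disjoint hcen hinf, hgen hk₁.1 hk₁1, hgen hk₂.1 hk₂1, hYc, pow_two])
    rw [← hYeq]
    exact sup_le (zpowers_le.2 h1) (zpowers_le.2 h2)
  -- at most one fixed member when something moves
  have hone : ∀ B F F', mem p C' A' B → cj z B ≠ B → mem p C' A' F → cj z F = F →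
      mem p C' A' F' → cj z F' = F' → F = F' := by
    intro B F F' hB hne hF hFf hF' hFf'
    by_contra hFF
    obtain ⟨k, hk, hk0, hkn⟩ : ∃ k, Nat.card ↥(X ⊓ B) = p ^ k ∧ 0 < k ∧ n ≤ k + 3 := by
      rcases card_inf_hyper hB.1 hB.2.1 hS.X_le hS.cardX with h1 | ⟨-, h1⟩
      · exact ⟨2 * l, h1, by omega, by omega⟩
      · refine ⟨2 * l - 1, ?_, by omega, by omega⟩
        rw [show 2 * l = 2 * l - 1 + 1 by omega, pow_succ] at h1
        exact Nat.eq_of_mul_eq_mul_right hpp.pos h1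
    have hfne : ∀ {F : Subgroup G}, cj z F = F → F ≠ B ∧ F ≠ cj z B := by
      intro F hFf
      refine ⟨fun he => hne (he ▸ hFf), fun he => hne ?_⟩
      rw [he, cj_cj hP.zz] at hFf
      exact hFf.symm
    exact hS.pair.four_members' h (inf_le_left.trans hS.X_le) hk hk0 hkn
      ⟨hB, inf_le_right⟩ ⟨hS.mem_cj hP hB, fun x hx => hS.inter_le_cj (mem_inf.2 ⟨hx.2, hx.1⟩)⟩
      ⟨hF, inf_le_left.trans (hS.fixed_eq hP h two_pos (by omega) hF hFf).1⟩
      ⟨hF', inf_le_left.trans (hS.fixed_eq hP h two_pos (by omega) hF' hFf').1⟩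
      (Ne.symm hne) (hfne hFf).1.symm (hfne hFf').1.symm (hfne hFf).2.symm (hfne hFf').2.symm hFF
  -- no moved member contains one of the two lines
  have hfixk : ∀ {k u : G} {Bo : Subgroup G}, mem p C A Bo → Bo ∉ f '' {i | i < 2 * l} →
      k ∈ Y → k ≠ 1 → k ∈ Bo → u ∈ Y → u ∉ Bo → (∀ B, mem p C' A' B → k ∈ B → u ∉ B) →
      ∀ B, mem p C' A' B → k ∈ B → cj z B = B := by
    intro k u Bo hBo hBoS hk hk1 hkBo hu huBo hno B hB hkB
    by_contra hne
    obtain ⟨R, hR, hcov, hcount⟩ := hS.count hP h hYA hBo hBoS hk hkBo hu huBo hno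
    obtain ⟨F, hF, hkF, hFf⟩ : ∃ F, mem p C' A' F ∧ k ∈ F ∧ cj z F = F := by
      by_contra hh
      push Not at hh
      have h0 := hcount ∅ fun F hF hkF hFf => absurd hFf (hh F hF hkF)
      rw [Finset.card_empty, Nat.le_zero, Finset.card_eq_zero] at h0
      rcases hcov B hB hkB hne with h1 | h1 <;> rw [h0] at h1 <;> exact Finset.notMem_empty _ h1
    obtain ⟨D, hD, hkD⟩ : ∃ D, mem p C' A' D ∧ k ∉ D := by
      by_contra hh
      push Not at hh
      exact hk1 (hS.pair.inter_trivial h (hS.Y_le hk) hh)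
    set K := zpowers k ⊔ (X ⊓ B) with hK
    have hKA : K ≤ A' := sup_le (zpowers_le.2 (hS.Y_le hk)) (inf_le_left.trans hS.X_le)
    obtain ⟨e, he, he2⟩ : ∃ e, Nat.card K = p ^ e ∧ 2 * l ≤ e := by
      have hcen : zpowers k ≤ centralizer ((X ⊓ B : Subgroup G) : Set G) := fun x hx =>
        mem_centralizer_iff.2 fun y hy => comm_of_elem hS.pair.elem (hS.X_le hy.1)
          (zpowers_le.2 (hS.Y_le hk) hx)
      have hinf : zpowers k ⊓ (X ⊓ B) = ⊥ := (eq_bot_iff_forall _).2 fun x hx =>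
        eq_one_of_fixed_inverted (hP.odd_p h) (hP.pow_p (hYA (zpowers_le.2 hk hx.1)))
          (hS.fixes x (zpowers_le.2 hk hx.1)) (hS.inverts x hx.2.1)
      have h1 := card_sup_of_disjoint hcen hinf
      rw [hgen hk hk1] at h1
      rcases card_inf_hyper hB.1 hB.2.1 hS.X_le hS.cardX with h2 | ⟨-, h2⟩
      · exact ⟨2 * l + 1, by rw [h1, h2, pow_succ'], by omega⟩
      · exact ⟨2 * l, by rw [h1, mul_comm, h2], le_rfl⟩
    obtain ⟨m, hm, hm2⟩ : ∃ m, Nat.card ↥(K ⊓ D) = p ^ m ∧ e ≤ m + 1 := by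
      rcases card_inf_hyper hD.1 hD.2.1 hKA he with h2 | ⟨-, h2⟩
      · exact ⟨e, h2, by omega⟩
      · refine ⟨e - 1, ?_, by omega⟩
        rw [show e = e - 1 + 1 by omega, pow_succ] at h2
        exact Nat.eq_of_mul_eq_mul_right hpp.pos h2
    have hFB : F ≠ B := fun hh => hne (hh ▸ hFf)
    have hFB' : F ≠ cj z B := fun hh => hne (by rw [hh, cj_cj hP.zz] at hFf; exact hFf.symm)
    have hkB' : k ∈ cj z B := hS.fix_mem_cj hk hkB
    have hKB : K ≤ B := sup_le (zpowers_le.2 hkB) inf_le_right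
    have hKB' : K ≤ cj z B :=
      sup_le (zpowers_le.2 hkB') fun x hx => hS.inter_le_cj (mem_inf.2 ⟨hx.2, hx.1⟩)
    have hKF : K ≤ F :=
      sup_le (zpowers_le.2 hkF) (inf_le_left.trans (hS.fixed_eq hP h two_pos (by omega) hF hFf).1)
    exact hS.pair.four_members' h (inf_le_left.trans hKA) hm (by omega) (by omega)
      ⟨hB, inf_le_left.trans hKB⟩ ⟨hS.mem_cj hP hB, inf_le_left.trans hKB'⟩
      ⟨hF, inf_le_left.trans hKF⟩ ⟨hD, inf_le_right⟩
      (Ne.symm hne) hFB.symm (fun hh => hkD (hh ▸ hkB)) hFB'.symm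
      (fun hh => hkD (hh ▸ hkB')) (fun hh => hkD (hh ▸ hkF))
  have hmemP : mem p C A P := hf _ (by omega)
  have hmemQ : mem p C A Q := hf _ (by omega)
  have hPS : P ∉ f '' {i | i < 2 * l} := hnotS _ le_rfl (by omega)
  have hQS : Q ∉ f '' {i | i < 2 * l} := hnotS _ (by omega) (by omega)
  have hX1 : ∃ x ∈ X, x ≠ 1 := (bot_or_exists_ne_one _).resolve_left fun hb => by
    have := hS.cardX
    rw [hb, card_bot] at this
    exact (Nat.one_lt_pow (by omega) hpp.one_lt).ne this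
  obtain ⟨B, hB, hne⟩ : ∃ B, mem p C' A' B ∧ cj z B ≠ B := by
    by_contra hh
    push Not at hh
    obtain ⟨x, hx, hx1⟩ := hX1
    exact hx1 (hS.pair.inter_trivial h (hS.X_le hx) fun D hD =>
      (hS.fixed_eq hP h two_pos (by omega) hD (hh D hD)).1 hx)
  by_cases hk2 : ∃ F, mem p C' A' F ∧ k₂ ∈ F
  · -- then no member contains `k₁`
    refine hS.finish hP h two_pos (by omega) (by omega) hYA hmemP hPS hk₁.1 hk₁P
      (fun D hD hm => ?_) hone
    obtain ⟨F, hF, hk2F⟩ := hk2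
    have h1 := hfixk hmemQ hQS hk₁.1 hk₁1 hk₁.2 hk₂.1 hk₂Q hno D hD hm
    have h2 := hfixk hmemP hPS hk₂.1 hk₂1 hk₂.2 hk₁.1 hk₁P
      (fun D hD h1 h2 => hno D hD h2 h1) F hF hk2F
    exact hno D hD hm (hone B D F hB hne hD h1 hF h2 ▸ hk2F)
  · push Not at hk2
    exact hS.finish hP h two_pos (by omega) (by omega) hYA hmemQ hQS hk₂.1 hk₂Q hk2 hone

/-- Klinger-Mason: there are no such configurations. -/
theorem Ctx.false_of_normalizing (h : Ctx G p n) {A T : Subgroup G}
    (hA : Cfsg.IsElementaryAbelian p A) (hc : Nat.card A = p ^ n) (hT : IsPGroup 2 T)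
    (hT1 : T ≠ ⊥) (hAT : A ≤ normalizer (T : Set G)) : False := by
  obtain ⟨z, hz, hAz⟩ := exists_fixed_involution h hA hc hT hT1 hAT
  obtain ⟨C, hP⟩ := exists_pair_of_involution h hA hc hz hAz
  rcases Nat.even_or_odd n with ⟨m, hm⟩ | ⟨m, hm⟩
  · exact hP.false_even h (l := m - 1) (by have := h.three; omega)
  · exact hP.false_odd h hm

end CfsgLib.Classif.KM
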