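import Cfsg.Agent.Lib.Classif.KlingerMason.Decomp
import Cfsg.Agent.Lib.Classif.LocalCharTwo

/-!
# Klinger-Mason: existence of a pair, and independent members
-/

set_option autoImplicit false
set_option linter.unusedSectionVars false

namespace CfsgLib.Classif.KM

open Subgroup CfsgLib.LocalEvenCharP
open scoped commutatorElement

variable {G : Type*} [Group G] [Finite G]
variable {p n : ℕ} [Fact p.Prime]

theorem exists_pair_of_involution (h : Ctx G p n) {A : Subgroup G}
    (hA : Cfsg.IsElementaryAbelian p A) (hc : Nat.card A = p ^ n) {z : G} (hz : orderOf z = 2)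
    (hAz : ∀ a ∈ A, a * z = z * a) : ∃ C : Subgroup G, Pair p n z A C := by
  set L := centralizer ({z} : Set G) with hL
  have hz2 : z ^ 2 = 1 := by rw [← hz, pow_orderOf_eq_one]
  have hZ2 : IsPGroup 2 (zpowers z) := isPGroup_of_elem (elem_zpowers hz2)
  have hne : zpowers z ≠ ⊥ := by
    rw [Ne, zpowers_eq_bot]; intro h1; simp [h1] at hz
  have hchar : IsCharP 2 ↥L := by
    have := h.loc2 (zpowers z) hZ2 hne
    rwa [normalizer_zpowers_involution hz] at this
  obtain ⟨C, hCQ, hC2, hnorm, hfix, hcomm, hsq, hfaith⟩ := exists_critical_in hchar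
  have hzQ : z ∈ Cfsg.pCoreOf 2 L := by
    have : Fact (Nat.Prime 2) := ⟨Nat.prime_two⟩
    refine le_pCoreOf (zpowers_le.2 (mem_centralizer_singleton_iff.2 rfl)) ?_ hZ2 (mem_zpowers z)
    rw [normalizer_zpowers_involution hz]
  have hCz : ∀ x ∈ C, x * z = z * x := fun x hx =>
    mem_centralizer_singleton_iff.1 (pCoreOf_le 2 L (hCQ hx))
  refine ⟨C, hz, hA, hc, hAz, hC2, hnorm, hCz,
    hfix (mem_inf.2 ⟨hzQ, mem_centralizer_iff.2 hCz⟩), fun a ha hfx => ?_, hcomm, hsq⟩
  refine hfaith a (mem_centralizer_singleton_iff.2 (hAz a ha)) ?_ hfx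
  exact ((Nat.coprime_primes (Fact.out : p.Prime) Nat.prime_two).2 h.odd).coprime_dvd_left
    (orderOf_dvd_of_pow_eq_one (hA.2 a ha))

theorem conj_mem_centralizer_abelian {A B : Subgroup G} (hA : Cfsg.IsElementaryAbelian p A)
    (hBA : B ≤ A) {a x : G} (ha : a ∈ A) (hx : x ∈ centralizer (B : Set G)) :
    a * x * a⁻¹ ∈ centralizer (B : Set G) := by
  refine mem_centralizer_iff.2 fun b hb => ?_
  have h1 : Commute b a := comm_of_elem hA (hBA hb) ha
  have h2 : Commute b x := mem_centralizer_iff.1 hx b hb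
  exact ((h1.mul_right h2).mul_right h1.inv_right).eq

theorem card_eq_four (h : Ctx G p n) {A B U : Subgroup G} (hA : Cfsg.IsElementaryAbelian p A)
    (hc : Nat.card A = p ^ n) (hBA : B ≤ A) (hB : B.relIndex A = p)
    (hU : Cfsg.IsElementaryAbelian 2 U) (hUB : U ≤ centralizer (B : Set G))
    (hAU : A ≤ normalizer (U : Set G)) {a x : G} (ha : a ∈ A) (hx : x ∈ U)
    (hax : a * x ≠ x * a) : Nat.card U = 2 ^ 2 := by
  obtain ⟨e, he⟩ := elem_pow_card (p := 2) (hA := hU)
  have h3 := h.three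
  have hx1 : x ≠ 1 := fun hh => hax (by simp [hh])
  have hle : e ≤ 2 := by
    by_contra hlt
    have := h.rank_le (elem_mono hA hBA) (card_hyper hc (by omega) hBA hB) (by omega) hU he
      (by omega) hUB
    omega
  rcases Nat.lt_or_ge e 2 with hlt | hge
  · exfalso
    rcases Nat.lt_or_ge e 1 with h0 | h1
    · rw [show e = 0 by omega, pow_zero] at he
      rw [Subgroup.card_eq_one.1 he, mem_bot] at hx
      exact hx1 hx
    · rw [show e = 1 by omega, pow_one, Nat.card_eq_two_iff' (1 : U)] at he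
      obtain ⟨u, -, huniq⟩ := he
      have h4 : a * x * a⁻¹ ≠ 1 := fun hh => hx1 (conj_eq_one_iff.1 hh)
      have h5 := (huniq ⟨_, conj_mem (hAU ha) hx⟩ fun hh => h4 (congrArg Subtype.val hh)).trans
        (huniq ⟨x, hx⟩ fun hh => hx1 (congrArg Subtype.val hh)).symm
      exact hax (mul_inv_eq_iff_eq_mul.1 (congrArg Subtype.val h5))
  · rw [he, le_antisymm hle hge]

theorem no_sixteen (h : Ctx G p n) {A B₀ B₁ U₀ U₁ : Subgroup G}
    (hA : Cfsg.IsElementaryAbelian p A) (hc : Nat.card A = p ^ n) (hB₀ : B₀ ≤ A)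
    (hB₀p : B₀.relIndex A = p) (hB₁ : B₁ ≤ A) (hB₁p : B₁.relIndex A = p) (hne : ¬ B₀ ≤ B₁)
    (h0 : Cfsg.IsElementaryAbelian 2 U₀) (h1 : Cfsg.IsElementaryAbelian 2 U₁)
    (h0B : U₀ ≤ centralizer (B₀ : Set G)) (h1B : U₁ ≤ centralizer (B₁ : Set G))
    (hcom : U₀ ≤ centralizer (U₁ : Set G)) (hinf : U₀ ⊓ U₁ = ⊥)
    (c0 : Nat.card U₀ = 2 ^ 2) (c1 : Nat.card U₁ = 2 ^ 2) : False := by
  have h3 := h.three
  rcases card_inf_hyper hB₁ hB₁p hB₀ (card_hyper hc (by omega) hB₀ hB₀p) with hk | ⟨-, hk⟩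
  · exact hne (inf_eq_left.1
      (eq_of_le_of_card_ge inf_le_left (by rw [card_hyper hc (by omega) hB₀ hB₀p, hk])))
  have hk' : Nat.card ↥(B₀ ⊓ B₁) = p ^ (n - 2) := by
    rw [show n - 1 = (n - 2) + 1 by omega, pow_succ] at hk
    exact Nat.eq_of_mul_eq_mul_right (Fact.out : p.Prime).pos hk
  have hcard : Nat.card ↥(U₀ ⊔ U₁) = 2 ^ 4 := by
    rw [card_sup_of_disjoint hcom hinf, c0, c1]; norm_num
  have := h.rank_le (elem_mono hA (inf_le_left.trans hB₀)) hk' (by omega)
    (elem_sup h0 h1 hcom) hcard (by norm_num)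
    (sup_le (h0B.trans (centralizer_le inf_le_left)) (h1B.trans (centralizer_le inf_le_right)))
  omega

/-- A maximal elementary abelian group normalizing a 2-group centralizes an involution. -/
theorem exists_fixed_involution (h : Ctx G p n) {A T : Subgroup G}
    (hA : Cfsg.IsElementaryAbelian p A) (hc : Nat.card A = p ^ n) (hT : IsPGroup 2 T)
    (hT1 : T ≠ ⊥) (hAT : A ≤ normalizer (T : Set G)) :
    ∃ z : G, orderOf z = 2 ∧ ∀ a ∈ A, a * z = z * a := by
  have : Fact (Nat.Prime 2) := ⟨Nat.prime_two⟩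
  by_contra hcon
  push Not at hcon
  have hno : ∀ {x : G}, x * x = 1 → (∀ a ∈ A, a * x = x * a) → x = 1 := by
    intro x hx hxA
    by_contra hx1
    obtain ⟨a, ha, hne⟩ := hcon x (orderOf_eq_prime (by rw [pow_two, hx]) hx1)
    exact hne (hxA a ha)
  have h3 := h.three
  have hA1 : A ≠ ⊥ := fun hh => by
    rw [hh, card_bot] at hc
    exact (Nat.one_lt_pow (by omega) (Fact.out : p.Prime).one_lt).ne hc
  obtain ⟨C, -, hC2, hnorm, -, hcomm, hsq, hfaith⟩ :=
    exists_critical_in (h.loc2 T hT hT1)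
  have hAC : A ≤ normalizer (C : Set G) := hAT.trans hnorm
  have hfaith' : ∀ a ∈ A, (∀ x ∈ C, a * x = x * a) → a = 1 := fun a ha => hfaith a (hAT ha)
    (((Nat.coprime_primes (Fact.out : p.Prime) Nat.prime_two).2 h.odd).coprime_dvd_left
      (orderOf_dvd_of_pow_eq_one (hA.2 a ha)))
  have hcop : ∀ {U : Subgroup G}, IsPGroup 2 U → (Nat.card A).Coprime (Nat.card U) := by
    intro U hU
    obtain ⟨k, hk⟩ := hU.exists_card_eq
    rw [hc, hk]
    exact Nat.Coprime.pow _ _ ((Nat.coprime_primes Fact.out Nat.prime_two).2 h.odd)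
  set W := C ⊓ centralizer (C : Set G) with hW
  have hWc : ∀ x ∈ W, ∀ y ∈ W, x * y = y * x := fun x hx y hy =>
    mem_centralizer_iff.1 hy.2 x hx.1
  let V : Subgroup G :=
    { carrier := {x | x ∈ W ∧ x * x = 1}
      one_mem' := ⟨one_mem W, one_mul 1⟩
      mul_mem' := fun {x y} hx hy => ⟨mul_mem hx.1 hy.1, by
        rw [Commute.mul_mul_mul_comm (hWc y hy.1 x hx.1), hx.2, hy.2, one_mul]⟩
      inv_mem' := fun {x} hx => ⟨inv_mem hx.1, by rw [← mul_inv_rev, hx.2, inv_one]⟩ }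
  have hVe : Cfsg.IsElementaryAbelian 2 V :=
    ⟨⟨⟨fun x y => Subtype.ext (hWc _ x.2.1 _ y.2.1)⟩⟩, fun x hx => by rw [pow_two]; exact hx.2⟩
  have hAW : ∀ a ∈ A, ∀ x ∈ W, a * x * a⁻¹ ∈ W := by
    intro a ha x hx
    refine mem_inf.2 ⟨conj_mem (hAC ha) hx.1, mem_centralizer_iff.2 fun y hy => ?_⟩
    have h1 := mem_centralizer_iff.1 hx.2 _ (conj_mem (inv_mem (hAC ha)) hy)
    calc y * (a * x * a⁻¹) = a * ((a⁻¹ * y * a⁻¹⁻¹) * x) * a⁻¹ := by group
      _ = a * (x * (a⁻¹ * y * a⁻¹⁻¹)) * a⁻¹ := by rw [h1]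
      _ = _ := by group
  have hAV : A ≤ normalizer (V : Set G) := le_normalizer_iff.2 fun a ha x hx =>
    ⟨hAW a ha x hx.1, by
      rw [show a * x * a⁻¹ * (a * x * a⁻¹) = a * (x * x) * a⁻¹ by group, hx.2, mul_one,
        mul_inv_cancel]⟩
  have hAVB : ∀ {B : Subgroup G}, B ≤ A →
      A ≤ normalizer ((V ⊓ centralizer (B : Set G) : Subgroup G) : Set G) := fun hB =>
    le_normalizer_iff.2 fun a ha x hx => mem_inf.2
      ⟨conj_mem (hAV ha) hx.1, conj_mem_centralizer_abelian hA hB ha hx.2⟩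
  -- some hyperplane centralizes part of `V`
  have hC1 : C ≠ ⊥ := fun hh => by
    obtain ⟨a, ha, ha1⟩ := (bot_or_exists_ne_one A).resolve_left hA1
    exact ha1 (hfaith' a ha fun x hx => by rw [hh, mem_bot] at hx; simp [hx])
  have hV1 : V ≠ ⊥ := by
    haveI : Nontrivial C := (nontrivial_iff_ne_bot C).2 hC1
    haveI := hC2.center_nontrivial
    obtain ⟨u, hu⟩ := exists_prime_orderOf_dvd_card' 2
      ((hC2.to_subgroup (center C)).card_eq_or_dvd.resolve_left Finite.one_lt_card.ne')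
    intro hh
    have huV : ((u : C) : G) ∈ V := by
      refine ⟨mem_inf.2 ⟨(u : C).2, mem_centralizer_iff.2 fun y hy => ?_⟩, ?_⟩
      · exact congrArg Subtype.val (mem_center_iff.1 u.2 ⟨y, hy⟩)
      · have := pow_orderOf_eq_one u
        rw [hu, pow_two] at this
        exact congrArg (fun w : center C => ((w : C) : G)) this
    rw [hh, mem_bot] at huV
    have : u = 1 := Subtype.ext (Subtype.ext huV)
    rw [this, orderOf_one] at hu
    norm_num at hu
  obtain ⟨B₀, hB₀, hB₀p, x₀, hx₀, hx₀1⟩ : ∃ B : Subgroup G, B ≤ A ∧ B.relIndex A = p ∧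
      ∃ x ∈ V ⊓ centralizer (B : Set G), x ≠ 1 := by
    by_contra hno0
    push Not at hno0
    refine hV1 (le_bot_iff.1 ((CfsgLib.Coprime39.le_hyperCent_of_isPGroup hA hA1
      (isPGroup_of_elem hVe) (hcop (isPGroup_of_elem hVe)) hAV).trans (iSup_le fun B x hx => ?_)))
    exact mem_bot.2 (hno0 B B.2.1 B.2.2 x hx)
  obtain ⟨a₀, ha₀, hax₀⟩ : ∃ a ∈ A, a * x₀ ≠ x₀ * a := by
    by_contra hh
    push Not at hh
    exact hx₀1 (hno hx₀.1.2 hh)
  set U₀ := V ⊓ centralizer (B₀ : Set G) with hU₀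
  have hU₀e : Cfsg.IsElementaryAbelian 2 U₀ := elem_mono hVe inf_le_left
  have hc₀ : Nat.card U₀ = 2 ^ 2 :=
    card_eq_four h hA hc hB₀ hB₀p hU₀e inf_le_right (hAVB hB₀) ha₀ hx₀ hax₀
  -- a second hyperplane moves something
  obtain ⟨B, hB, hBp, hne, x, hxC, hxB, a, ha, hax⟩ : ∃ B : Subgroup G, B ≤ A ∧
      B.relIndex A = p ∧ ¬ B₀ ≤ B ∧ ∃ x ∈ C, x ∈ centralizer (B : Set G) ∧
        ∃ a ∈ A, a * x ≠ x * a := by
    by_contra hh
    push Not at hh
    have hB₀1 : B₀ ≠ ⊥ := fun hbot => by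
      have := card_hyper hc (by omega) hB₀ hB₀p
      rw [hbot, card_bot] at this
      exact (Nat.one_lt_pow (by omega) (Fact.out : p.Prime).one_lt).ne this
    obtain ⟨b, hb, hb1⟩ := (bot_or_exists_ne_one B₀).resolve_left hB₀1
    refine hb1 (hfaith' b (hB₀ hb) fun y hy => ?_)
    refine (mem_centralizer_singleton_iff.1 ((CfsgLib.Coprime39.le_hyperCent_of_isPGroup hA hA1
      hC2 (hcop hC2) hAC).trans (iSup_le fun B u hu => ?_) hy :
        y ∈ centralizer ({b} : Set G))).symm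
    rw [mem_centralizer_singleton_iff]
    by_cases hle : B₀ ≤ (B : Subgroup G)
    · exact (mem_centralizer_iff.1 hu.2 b (hle hb)).symm
    · exact (hh B B.2.1 B.2.2 hle u hu.1 hu.2 b (hB₀ hb)).symm
  -- `B` centralizes no involution of the centre of `C`
  have hfree : ∀ v ∈ V, v ∈ centralizer (B : Set G) → v = 1 := by
    intro v hv hvB
    by_contra hv1
    obtain ⟨a', ha', hav⟩ : ∃ a' ∈ A, a' * v ≠ v * a' := by
      by_contra hh
      push Not at hh
      exact hv1 (hno hv.2 hh)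
    set U₁ := V ⊓ centralizer (B : Set G) with hU₁
    have hU₁e : Cfsg.IsElementaryAbelian 2 U₁ := elem_mono hVe inf_le_left
    have hc₁ : Nat.card U₁ = 2 ^ 2 :=
      card_eq_four h hA hc hB hBp hU₁e inf_le_right (hAVB hB) ha' (mem_inf.2 ⟨hv, hvB⟩) hav
    refine no_sixteen h hA hc hB₀ hB₀p hB hBp hne hU₀e hU₁e inf_le_right inf_le_right
      (fun u hu => mem_centralizer_iff.2 fun w hw => hWc w hw.1.1 u hu.1.1)
      ((eq_bot_iff_forall _).2 fun u hu => hno hu.1.1.2 fun c hcA => ?_) hc₀ hc₁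
    rw [← sup_hyper hB hBp hB₀ hne] at hcA
    have hle : B ⊔ B₀ ≤ centralizer ({u} : Set G) :=
      sup_le (fun b hb => mem_centralizer_singleton_iff.2 (mem_centralizer_iff.1 hu.2.2 b hb))
        (fun b hb => mem_centralizer_singleton_iff.2 (mem_centralizer_iff.1 hu.1.2 b hb))
    exact mem_centralizer_singleton_iff.1 (hle hcA)
  -- hence `C_C(B)` is elementary
  set R := C ⊓ centralizer (B : Set G) with hR
  have hR2 : ∀ u ∈ R, u * u = 1 := by
    intro u hu
    by_contra hne2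
    have hw : u * u ∈ W := hsq u hu.1
    have hwB : u * u ∈ centralizer (B : Set G) := mul_mem hu.2 hu.2
    set w := u * u with hwdef
    obtain ⟨⟨y, hy⟩, hyo⟩ := exists_prime_orderOf_dvd_card' 2
      ((hC2.to_le (zpowers_le.2 hw.1)).card_eq_or_dvd.resolve_left fun hh =>
        hne2 (by simpa using Subgroup.card_eq_one.1 hh))
    rw [orderOf_mk] at hyo
    have hy1 := hfree y ⟨zpowers_le.2 hw hy, by rw [← pow_two, ← hyo, pow_orderOf_eq_one]⟩
      (zpowers_le.2 hwB hy)
    rw [hy1, orderOf_one] at hyo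
    norm_num at hyo
  have hRe : Cfsg.IsElementaryAbelian 2 R := by
    refine ⟨⟨⟨fun u v => Subtype.ext ?_⟩⟩, fun u hu => by rw [pow_two]; exact hR2 u hu⟩
    have h1 := hR2 _ (mul_mem u.2 v.2)
    have hu : (u : G)⁻¹ = u := inv_eq_of_mul_eq_one_right (hR2 u u.2)
    have hv : (v : G)⁻¹ = v := inv_eq_of_mul_eq_one_right (hR2 v v.2)
    show (u : G) * v = v * u
    have h2 : ((u : G) * v)⁻¹ = u * v := inv_eq_of_mul_eq_one_right h1
    rw [← h2, mul_inv_rev, hu, hv]
  have hAR : A ≤ normalizer (R : Set G) := le_normalizer_iff.2 fun a ha x hx =>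
    mem_inf.2 ⟨conj_mem (hAC ha) hx.1, conj_mem_centralizer_abelian hA hB ha hx.2⟩
  have hcR : Nat.card R = 2 ^ 2 :=
    card_eq_four h hA hc hB hBp hRe inf_le_right hAR ha (mem_inf.2 ⟨hxC, hxB⟩) hax
  exact no_sixteen h hA hc hB₀ hB₀p hB hBp hne hU₀e hRe inf_le_right inf_le_right
    (fun u hu => mem_centralizer_iff.2 fun w hw => mem_centralizer_iff.1 hu.1.1.2 w hw.1)
    ((eq_bot_iff_forall _).2 fun u hu => hfree u hu.1.1 hu.2.2) hc₀ hcR

/-- The successive intersections of a sequence of members with `A`. -/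
def chainInf (A : Subgroup G) (f : ℕ → Subgroup G) : ℕ → Subgroup G
  | 0 => A
  | i + 1 => chainInf A f i ⊓ f i

theorem chainInf_le (A : Subgroup G) (f : ℕ → Subgroup G) : ∀ i, chainInf A f i ≤ A
  | 0 => le_rfl
  | i + 1 => inf_le_left.trans (chainInf_le A f i)

theorem chainInf_le_apply (A : Subgroup G) (f : ℕ → Subgroup G) :
    ∀ {i j : ℕ}, i < j → chainInf A f j ≤ f i
  | i, 0, h => absurd h (Nat.not_lt_zero i)
  | i, j + 1, h => by
    rcases Nat.lt_succ_iff_lt_or_eq.1 h with h' | h'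
    · exact inf_le_left.trans (chainInf_le_apply A f h')
    · exact h' ▸ inf_le_right

theorem chainInf_congr (A : Subgroup G) {f g : ℕ → Subgroup G} :
    ∀ {i : ℕ}, (∀ j < i, f j = g j) → chainInf A f i = chainInf A g i
  | 0, _ => rfl
  | i + 1, h => by
    show chainInf A f i ⊓ f i = chainInf A g i ⊓ g i
    rw [chainInf_congr A fun j hj => h j (by omega), h i (by omega)]

variable {z : G} {A C : Subgroup G}

theorem Pair.exists_indep (hP : Pair p n z A C) (h : Ctx G p n) :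
    ∃ f : ℕ → Subgroup G, (∀ i < n, mem p C A (f i)) ∧
      (∀ i ≤ n, Nat.card (chainInf A f i) = p ^ (n - i)) ∧ Set.InjOn f {i | i < n} := by
  suffices hm : ∀ m ≤ n, ∃ f : ℕ → Subgroup G, (∀ i < m, mem p C A (f i)) ∧
      (∀ i ≤ m, Nat.card (chainInf A f i) = p ^ (n - i)) by
    obtain ⟨f, hf, hc⟩ := hm n le_rfl
    refine ⟨f, hf, hc, ?_⟩
    have key : ∀ i j, i < j → j < n → f i ≠ f j := by
      intro i j hij hj he
      have hle : chainInf A f (j + 1) = chainInf A f j :=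
        inf_eq_left.2 (he ▸ chainInf_le_apply A f hij)
      have h1 := hc (j + 1) (by omega)
      rw [hle, hc j (by omega)] at h1
      have := Nat.pow_right_injective (Fact.out : p.Prime).two_le h1
      omega
    intro i hi j hj he
    rcases lt_trichotomy i j with h1 | h1 | h1
    · exact absurd he (key i j h1 hj)
    · exact h1
    · exact absurd he.symm (key j i h1 hi)
  intro m
  induction m with
  | zero =>
    intro _
    exact ⟨fun _ => A, by simp, fun i hi => by
      rw [Nat.le_zero.1 hi]; simpa [chainInf] using hP.card_eq⟩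
  | succ m ih =>
    intro hm
    obtain ⟨f, hf, hc⟩ := ih (by omega)
    have hne : chainInf A f m ≠ ⊥ := fun hh => by
      have := hc m le_rfl
      rw [hh, card_bot] at this
      exact (Nat.one_lt_pow (by omega) (Fact.out : p.Prime).one_lt).ne this
    obtain ⟨B, hB, hnot⟩ := hP.exists_mem_notMem h (chainInf_le A f m) hne
    refine ⟨Function.update f m B, fun i hi => ?_, fun i hi => ?_⟩
    · rcases Nat.lt_succ_iff_lt_or_eq.1 hi with h' | h'
      · rw [Function.update_of_ne h'.ne]; exact hf i h'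
      · rw [h', Function.update_self]; exact hB
    · rcases Nat.lt_or_ge i (m + 1) with h' | h'
      · rw [chainInf_congr A (g := f) fun j hj => Function.update_of_ne (by omega) _ _]
        exact hc i (by omega)
      · obtain rfl : i = m + 1 := le_antisymm hi h'
        show Nat.card ↥(chainInf A (Function.update f m B) m ⊓ Function.update f m B m) = _
        rw [chainInf_congr A (g := f) fun j hj => Function.update_of_ne hj.ne _ _,
          Function.update_self]
        rcases card_inf_hyper hB.1 hB.2.1 (chainInf_le A f m) (hc m le_rfl) with h1 | ⟨-, h1⟩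
        · exact absurd (inf_eq_left.1 (eq_of_le_of_card_ge inf_le_left (by
            rw [hc m le_rfl, h1]))) hnot
        · rw [show n - m = n - (m + 1) + 1 by omega, pow_succ] at h1
          exact Nat.eq_of_mul_eq_mul_right (Fact.out : p.Prime).pos h1

end CfsgLib.Classif.KM
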